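import Groth.Agent.H1AssDim.Fibre
import Mathlib

/-!
# Dimensions of the support components in the fibres of a proper morphism (EGA IV 12.2.1)
-/

universe u

set_option backward.isDefEq.respectTransparency false
set_option backward.isDefEq.respectTransparency.types false
set_option linter.style.haveILetI false
set_option maxHeartbeats 1000000

open AlgebraicGeometry CategoryTheory IsLocalRing TopologicalSpace Topology
open Groth.Agent.Codepth5

namespace Groth.Agent.H1AssDim

variable {X Y : Scheme.{u}} (f : X ⟶ Y) (F : X.Modules)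

/-- The dimensions of the components of the support of the restriction to a fibre. -/
abbrev compDims (y : Y) : Set (WithBot ℕ∞) :=
  (fun Z : Set ↥(fibSupp f F y) => topologicalKrullDim ↥Z) '' irreducibleComponents ↥(fibSupp f F y)

theorem compDims_eq [LocallyOfFiniteType f] (hF : CohB1.IsFP F) (y : Y) :
    compDims f F y = {d | ∃ t, f t = y ∧ XMin f F t ∧ ((FibDim.rd f t : ℕ∞) : WithBot ℕ∞) = d} := by
  rw [compDims, image_dim_components (isClosed_fibSupp f F hF y)]
  ext d
  constructor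
  · rintro ⟨z, hz, hmax, rfl⟩
    exact ⟨f.fiberι y z, FibDim.fiber_apply_fiberι f z, (xmin_iff_fibre f F hF y z).2 ⟨hz, hmax⟩,
      (dim_closure_fibre f y z).symm⟩
  · rintro ⟨t, ht, hmin, rfl⟩
    obtain ⟨z, rfl⟩ := exists_fibre_point f y t ht
    obtain ⟨hz, hmax⟩ := (xmin_iff_fibre f F hF y z).1 hmin
    exact ⟨z, hz, hmax, dim_closure_fibre f y z⟩

theorem compDims_supset_nhds [LocallyOfFinitePresentation f] (hF : CohB1.IsFP F) (hflat : FlatMod.IsFlatOver f F)
    {y : Y} {d : WithBot ℕ∞} (hd : d ∈ compDims f F y) : {y' | d ∈ compDims f F y'} ∈ nhds y := by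
  rw [compDims_eq f F hF] at hd
  obtain ⟨t, rfl, hmin, rfl⟩ := hd
  refine Filter.mem_of_superset (exists_min_rd_nhds f F hF hflat hmin) ?_
  rintro y' ⟨t', ht', hmin', hrd⟩
  rw [Set.mem_ofPred_eq, compDims_eq f F hF]
  exact ⟨t', ht', hmin', by rw [hrd]⟩

theorem isOpen_compDims_supset [LocallyOfFinitePresentation f] (hF : CohB1.IsFP F) (hflat : FlatMod.IsFlatOver f F)
    (Φ : Finset ℕ) : IsOpen {y : Y | ∀ n ∈ Φ, ((n : ℕ∞) : WithBot ℕ∞) ∈ compDims f F y} := by
  refine isOpen_iff_mem_nhds.2 fun y hy => ?_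
  exact Filter.mem_of_superset ((Filter.biInter_finset_mem Φ).2 fun n hn => compDims_supset_nhds f F hF hflat (hy n hn))
    fun y' hy' n hn => Set.mem_iInter₂.1 hy' n hn

theorem isOpen_base_assDims [IsProper f] [LocallyOfFinitePresentation f] (hF : CohB1.IsFP F)
    (hflat : FlatMod.IsFlatOver f F) (Φ : Finset ℕ) :
    IsOpen {y : Y | ∀ z ∈ AssSch.Ass ((Scheme.Modules.pullback (f.fiberι y)).obj F), ∃ n ∈ Φ,
      topologicalKrullDim ↥(closure ({z} : Set ↥(f.fiber y))) = (n : WithBot ℕ∞)} := by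
  convert (f.isClosedMap _ (isOpen_xassGen f F hF hflat (((↑) : ℕ → ℕ∞) '' (Φ : Set ℕ))).isClosed_compl).isOpen_compl using 1
  ext y
  constructor
  · rintro h ⟨x, hx, rfl⟩
    refine hx fun t _ he => ?_
    obtain ⟨z, rfl⟩ := exists_fibre_point f (f x) t he
    exact (assDims_iff f F hF Φ _ z).1 (h z)
  · intro h z
    refine (assDims_iff f F hF Φ _ z).2 ?_
    by_contra hc
    refine h ⟨f.fiberι y z, fun hmem => hc (hmem _ specializes_rfl rfl), FibDim.fiber_apply_fiberι f z⟩

theorem isOpen_base_noEmb [IsProper f] [LocallyOfFinitePresentation f] (hF : CohB1.IsFP F)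
    (hflat : FlatMod.IsFlatOver f F) :
    IsOpen {y : Y | AssSch.NoEmbedded ((Scheme.Modules.pullback (f.fiberι y)).obj F)} := by
  convert (f.isClosedMap _ (isOpen_noEmb f F hF hflat).isClosed_compl).isOpen_compl using 1
  ext y
  constructor
  · rintro h ⟨x, hx, rfl⟩
    exact hx fun z hz _ z' hz' hzz' => (h z hz z' hz' (specializes_iff_mem_closure.2 hzz')).symm
  · intro h z hz z' hz' hsp
    by_contra hne
    refine h ⟨f.fiberι y z, fun hmem => ?_, FibDim.fiber_apply_fiberι f z⟩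
    haveI : IsLocallyNoetherian (f.fiber y) := LocallyOfFiniteType.isLocallyNoetherian (f.fiberToSpecResidueField y)
    rw [Set.mem_ofPred_eq, noEmb_iff f F hF] at hmem
    have hmin := hmem _ specializes_rfl rfl ((mem_ass_iff f F hF y z).1 hz)
    exact hne (((xmin_iff_fibre f F hF y z).1 hmin).2 z'
      (not_subsingleton_iff_nontrivial.1 (AssLib.mem_support_of_mem_ass hz')) hsp).symm

theorem assDims_of_noEmb [LocallyOfFiniteType f] (hF : CohB1.IsFP F) (y : Y)
    (h : AssSch.NoEmbedded ((Scheme.Modules.pullback (f.fiberι y)).obj F)) (Φ : Finset ℕ) :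
    (∀ z ∈ AssSch.Ass ((Scheme.Modules.pullback (f.fiberι y)).obj F), ∃ n ∈ Φ,
      topologicalKrullDim ↥(closure ({z} : Set ↥(f.fiber y))) = (n : WithBot ℕ∞)) ↔
    compDims f F y ⊆ (fun n : ℕ => (n : WithBot ℕ∞)) '' (Φ : Set ℕ) := by
  haveI : IsLocallyNoetherian (f.fiber y) := LocallyOfFiniteType.isLocallyNoetherian (f.fiberToSpecResidueField y)
  have hQ := QCoh.isQCoh_pullback (f.fiberι y) (QCoh.isQCoh_of_isFP hF)
  rw [compDims, image_dim_components (isClosed_fibSupp f F hF y)]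
  constructor
  · rintro hA _ ⟨z, hz, hmax, rfl⟩
    obtain ⟨z', hz', hsp⟩ := AssLib.exists_ass_specializes hQ (show z ∈ CohB1.support _ from not_subsingleton_iff_nontrivial.2 hz)
    obtain rfl := hmax z' (not_subsingleton_iff_nontrivial.1 (AssLib.mem_support_of_mem_ass hz')) hsp
    obtain ⟨n, hn, hnz⟩ := hA z' hz'
    exact ⟨n, hn, hnz.symm⟩
  · intro hsub z hz
    have hmax : ∀ w ∈ fibSupp f F y, w ⤳ z → w = z := fun w hw hsp => by
      obtain ⟨z', hz', hz'w⟩ := AssLib.exists_ass_specializes hQ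
        (show w ∈ CohB1.support _ from not_subsingleton_iff_nontrivial.2 hw)
      obtain rfl := h z hz z' hz' (hz'w.trans hsp)
      exact (hsp.antisymm hz'w).eq
    obtain ⟨n, hn, hnz⟩ := hsub ⟨z, not_subsingleton_iff_nontrivial.1 (AssLib.mem_support_of_mem_ass hz), hmax, rfl⟩
    exact ⟨n, hn, hnz.symm⟩

theorem topologicalKrullDim_fibSupp [LocallyOfFiniteType f] (hF : CohB1.IsFP F) (y : Y) :
    topologicalKrullDim ↥(fibSupp f F y) = sSup (compDims f F y) := by
  rw [VarDim.topologicalKrullDim_set_eq_iSup_deg (k := Y.residueField y) (f.fiberToSpecResidueField y)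
    (isClosed_fibSupp f F hF y), compDims_eq f F hF]
  refine le_antisymm (iSup_le fun z => ?_) (sSup_le ?_)
  · have hzF : f.fiberι y z.1 ∈ CohB1.support F := (nontrivial_fibre_stalk_iff f F hF y z.1).1 z.2
    obtain ⟨t, hsp, he, hmin⟩ := exists_xmin f F hF hzF
    have ht : f t = y := he.trans (FibDim.fiber_apply_fiberι f z.1)
    refine le_trans ?_ (le_sSup ⟨t, ht, hmin, rfl⟩)
    obtain ⟨w, rfl⟩ := exists_fibre_point f y t ht
    rw [← FibDim.deg_fiber f]
    exact_mod_cast VarDim.deg_le_of_specializes _ ((FibDim.fiberι_specializes_iff f _ _).1 hsp)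
  · rintro _ ⟨t, ht, hmin, rfl⟩
    obtain ⟨w, rfl⟩ := exists_fibre_point f y t ht
    refine le_trans ?_ (le_iSup _ ⟨w, ((xmin_iff_fibre f F hF y w).1 hmin).1⟩)
    rw [← FibDim.deg_fiber f]

theorem isLocallyConstant_dim_fibSupp [IsProper f] [LocallyOfFinitePresentation f] (hF : CohB1.IsFP F)
    (hflat : FlatMod.IsFlatOver f F) :
    IsLocallyConstant (fun y : Y => topologicalKrullDim ↥(fibSupp f F y)) := by
  refine (IsLocallyConstant.iff_eventually_eq _).2 fun y => ?_
  haveI : IsLocallyNoetherian (f.fiber y) := LocallyOfFiniteType.isLocallyNoetherian (f.fiberToSpecResidueField y)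
  haveI : CompactSpace ↥(f.fiber y) := QuasiCompact.compactSpace_of_compactSpace (f.fiberToSpecResidueField y)
  haveI : IsNoetherian (f.fiber y) := {}
  have hfin : (compDims f F y).Finite :=
    (NoetherianSpace.finite_irreducibleComponents (α := ↥(fibSupp f F y))).image _
  have hnat : ∀ d ∈ compDims f F y, ∃ n : ℕ, d = ((n : ℕ∞) : WithBot ℕ∞) := fun d hd => by
    rw [compDims_eq f F hF] at hd
    obtain ⟨t, -, -, rfl⟩ := hd
    exact ⟨_, rfl⟩
  choose g hg using hnat
  let Ψ : Finset ℕ := (hfin.toFinset.attach.image fun d => g d.1 (hfin.mem_toFinset.1 d.2))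
  let Φ : Finset ℕ := Finset.range (Ψ.sup (· + 1))
  have hΨ : ∀ d (hd : d ∈ compDims f F y), g d hd ∈ Ψ := fun d hd =>
    Finset.mem_image.2 ⟨⟨d, hfin.mem_toFinset.2 hd⟩, Finset.mem_attach _ _, rfl⟩
  have hy₁ : ∀ n ∈ Ψ, ((n : ℕ∞) : WithBot ℕ∞) ∈ compDims f F y := fun n hn => by
    obtain ⟨⟨d, hd⟩, -, rfl⟩ := Finset.mem_image.1 hn
    exact hg d (hfin.mem_toFinset.1 hd) ▸ hfin.mem_toFinset.1 hd
  have hle : ∀ y', (∀ n ∈ Ψ, ((n : ℕ∞) : WithBot ℕ∞) ∈ compDims f F y') →
      topologicalKrullDim ↥(fibSupp f F y) ≤ topologicalKrullDim ↥(fibSupp f F y') := fun y' h => by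
    rw [topologicalKrullDim_fibSupp f F hF, topologicalKrullDim_fibSupp f F hF]
    refine sSup_le fun d hd => le_sSup ?_
    rw [hg d hd]
    exact h _ (hΨ d hd)
  have hmem : y ∈ {y' : Y | ∀ z ∈ AssSch.Ass ((Scheme.Modules.pullback (f.fiberι y')).obj F), ∃ n ∈ Φ,
      topologicalKrullDim ↥(closure ({z} : Set ↥(f.fiber y'))) = (n : WithBot ℕ∞)} := by
    intro z hz
    have hzS : z ∈ fibSupp f F y := not_subsingleton_iff_nontrivial.1 (AssLib.mem_support_of_mem_ass hz)
    have hzF := (nontrivial_fibre_stalk_iff f F hF y z).1 hzS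
    obtain ⟨t, hsp, he, hmin⟩ := exists_xmin f F hF hzF
    have ht : f t = y := he.trans (FibDim.fiber_apply_fiberι f z)
    have hd : ((FibDim.rd f t : ℕ∞) : WithBot ℕ∞) ∈ compDims f F y := by
      rw [compDims_eq f F hF]; exact ⟨t, ht, hmin, rfl⟩
    have hgt : FibDim.rd f t = g _ hd := by exact_mod_cast hg _ hd
    have hzt : FibDim.rd f (f.fiberι y z) ≤ FibDim.rd f t := by
      obtain ⟨w, rfl⟩ := exists_fibre_point f y t ht
      rw [← FibDim.deg_fiber f, ← FibDim.deg_fiber f]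
      exact VarDim.deg_le_of_specializes _ ((FibDim.fiberι_specializes_iff f _ _).1 hsp)
    refine ⟨_, Finset.mem_range.2 ?_, dim_closure_fibre f y z⟩
    have := Finset.le_sup (f := (· + 1)) (hΨ _ hd)
    omega
  filter_upwards [(isOpen_base_assDims f F hF hflat Φ).mem_nhds hmem,
    (isOpen_compDims_supset f F hF hflat Ψ).mem_nhds hy₁] with y' hA hS
  refine le_antisymm ?_ (hle y' hS)
  rw [topologicalKrullDim_fibSupp f F hF]
  refine sSup_le ?_
  rw [compDims, image_dim_components (isClosed_fibSupp f F hF y')]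
  rintro _ ⟨z, hz, hmax, rfl⟩
  haveI : IsLocallyNoetherian (f.fiber y') := LocallyOfFiniteType.isLocallyNoetherian (f.fiberToSpecResidueField y')
  obtain ⟨z', hz', hsp⟩ := AssLib.exists_ass_specializes (QCoh.isQCoh_pullback (f.fiberι y') (QCoh.isQCoh_of_isFP hF))
    (show z ∈ CohB1.support _ from not_subsingleton_iff_nontrivial.2 hz)
  obtain rfl := hmax z' (not_subsingleton_iff_nontrivial.1 (AssLib.mem_support_of_mem_ass hz')) hsp
  obtain ⟨n, hn, hnz⟩ := hA z' hz'
  rw [hnz]
  have hn' := Finset.mem_range.1 hn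
  obtain ⟨m, hm, hmn⟩ := Finset.exists_mem_eq_sup Ψ (Finset.nonempty_iff_ne_empty.2 fun h => by simp [h] at hn') (· + 1)
  rw [topologicalKrullDim_fibSupp f F hF]
  refine le_trans ?_ (le_sSup (hy₁ m hm))
  exact_mod_cast (show n ≤ m by omega)

end Groth.Agent.H1AssDim
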