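import Groth.Agent.S6285
import Mathlib

/-!
# The image of the support of a flat module is open
-/

universe u

open TensorProduct Topology

namespace Groth.Agent.H1AssDim

variable {A B : Type u} [CommRing A] [CommRing B] [Algebra A B] {M : Type u} [AddCommGroup M] [Module B M]
  [Module A M] [IsScalarTower A B M] [Module.Flat A M] [Module.Finite B M]

/-- Going down for the support of a flat finite module. -/
theorem exists_support_over {q : PrimeSpectrum B} (hq : q ∈ Module.support B M) (p : Ideal A) [p.IsPrime]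
    (hp : p ≤ q.asIdeal.comap (algebraMap A B)) :
    ∃ t ∈ Module.support B M, t ≤ q ∧ t.asIdeal.comap (algebraMap A B) = p := by
  let J := p.map (algebraMap A B)
  have hsupp : Module.support B (M ⧸ (J • ⊤ : Submodule B M)) = Module.support B M ∩ PrimeSpectrum.zeroLocus J :=
    Module.support_quotient J
  have hq' : q ∈ Module.support B (M ⧸ (J • ⊤ : Submodule B M)) :=
    hsupp.ge ⟨hq, Ideal.map_le_iff_le_comap.2 hp⟩
  rw [Module.mem_support_iff_of_finite] at hq'
  obtain ⟨t, ht, htq⟩ := Ideal.exists_minimalPrimes_le hq'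
  haveI := ht.1.1
  let t' : PrimeSpectrum B := ⟨t, ht.1.1⟩
  have htM : t' ∈ Module.support B (M ⧸ (J • ⊤ : Submodule B M)) := Module.mem_support_iff_of_finite.2 ht.1.2
  have htM' := hsupp.le htM
  refine ⟨t', htM'.1, htq, le_antisymm (fun a ha => ?_) (Ideal.map_le_iff_le_comap.1 htM'.2)⟩
  by_contra hap
  obtain ⟨s, hs, n, hn⟩ : ∃ s ∉ t, ∃ n : ℕ, s * algebraMap A B a ^ n ∈ Module.annihilator B (M ⧸ (J • ⊤ : Submodule B M)) := by
    haveI := ht.1.1
    let L := Localization.AtPrime t
    have hrad := IsLocalization.AtPrime.radical_map_of_mem_minimalPrimes (A := L) t _ ht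
    have hmem : algebraMap B L (algebraMap A B a) ∈ ((Module.annihilator B (M ⧸ (J • ⊤ : Submodule B M))).map (algebraMap B L)).radical := by
      rw [hrad, IsLocalization.AtPrime.map_eq_maximalIdeal t L]
      exact (IsLocalization.AtPrime.to_map_mem_maximal_iff L t _).2 ha
    obtain ⟨n, hn⟩ := hmem
    rw [← map_pow, IsLocalization.algebraMap_mem_map_algebraMap_iff t.primeCompl] at hn
    obtain ⟨s, hs, h⟩ := hn
    exact ⟨s, hs, n, h⟩
  let e := TensorProduct.quotTensorEquivQuotSMul M p
  have hinj : ∀ m : M, a • m ∈ (p • ⊤ : Submodule A M) → m ∈ (p • ⊤ : Submodule A M) := by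
    intro m hm
    let φ : A ⧸ p →ₗ[A] A ⧸ p := LinearMap.lsmul A (A ⧸ p) a
    have hφ : Function.Injective φ := (injective_iff_map_eq_zero φ).2 fun x hx => by
      obtain ⟨x, rfl⟩ := Ideal.Quotient.mk_surjective x
      have hx' : Ideal.Quotient.mk p (a * x) = 0 := hx
      rw [Ideal.Quotient.eq_zero_iff_mem] at hx' ⊢
      exact (‹p.IsPrime›.mem_or_mem hx').resolve_left hap
    have h := Module.Flat.rTensor_preserves_injective_linearMap (M := M) φ hφ
    have h0 : (1 : A ⧸ p) ⊗ₜ[A] m = 0 := by
      refine (injective_iff_map_eq_zero _).1 h _ ?_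
      rw [LinearMap.rTensor_tmul]
      refine e.injective ?_
      rw [map_zero, show φ 1 = Ideal.Quotient.mk p a from by
        show a • (1 : A ⧸ p) = _
        rw [Algebra.smul_def, mul_one]; rfl]
      exact (TensorProduct.quotTensorEquivQuotSMul_mk_tmul _ _ _).trans ((Submodule.Quotient.mk_eq_zero _).2 hm)
    have := congrArg e h0
    rw [map_zero, show (1 : A ⧸ p) = Ideal.Quotient.mk p 1 from (map_one _).symm] at this
    have h1 := (TensorProduct.quotTensorEquivQuotSMul_mk_tmul p 1 m).symm.trans this
    rwa [one_smul, Submodule.Quotient.mk_eq_zero] at h1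
  have hJ : ∀ m : M, m ∈ (J • ⊤ : Submodule B M) ↔ m ∈ (p • ⊤ : Submodule A M) := fun m => by
    rw [← Submodule.restrictScalars_mem A, Submodule.restrictScalars_map_smul_eq, Submodule.restrictScalars_top]
  apply hs
  refine Module.mem_support_iff_of_finite.1 htM ?_
  rw [Module.mem_annihilator] at hn ⊢
  intro m
  induction m using Submodule.Quotient.induction_on with | _ m => ?_
  have h2 := hn (Submodule.Quotient.mk m)
  rw [← Submodule.Quotient.mk_smul, Submodule.Quotient.mk_eq_zero, hJ] at h2
  rw [← Submodule.Quotient.mk_smul, Submodule.Quotient.mk_eq_zero, hJ]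
  rw [mul_comm, mul_smul, ← map_pow, algebraMap_smul] at h2
  clear hn
  induction n with
  | zero => simpa using h2
  | succ n ih =>
    refine ih ?_
    rw [pow_succ', mul_smul] at h2
    exact hinj _ h2

/-- The image of the support of a finitely presented flat module is open. -/
theorem isOpen_image_support [Algebra.FinitePresentation A B] [Module.FinitePresentation B M] (g : B) :
    IsOpen (PrimeSpectrum.comap (algebraMap A B) '' (↑(PrimeSpectrum.basicOpen g) ∩ Module.support B M)) := by
  refine PrimeSpectrum.isOpen_of_stableUnderGeneralization_of_isConstructible ?_ ?_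
  · rintro _ y hspec ⟨q, ⟨hg, hq⟩, rfl⟩
    obtain ⟨t, ht, htq, hty⟩ := exists_support_over hq y.asIdeal ((PrimeSpectrum.le_iff_specializes _ _).2 hspec)
    exact ⟨t, ⟨fun h => hg (htq h), ht⟩, PrimeSpectrum.ext hty⟩
  · refine PrimeSpectrum.isConstructible_comap_image (RingHom.finitePresentation_algebraMap.mpr ‹_›) ?_
    obtain ⟨hc, hk⟩ := S6285.result B M
    refine PrimeSpectrum.isConstructible_basicOpen.inter ?_
    rw [← isConstructible_compl]
    exact hk.isConstructible hc.isOpen_compl

end Groth.Agent.H1AssDim
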