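import Groth.Agent.H1AssDim.Scheme
import Groth.Agent.H1AssDim.SuppImage
import Groth.Agent.FibDim.Comp
import Groth.Agent.QCoh.Pullback
import Mathlib

/-!
# Associated points and support components of the fibres of a flat module
-/

universe u

set_option backward.isDefEq.respectTransparency false
set_option backward.isDefEq.respectTransparency.types false
set_option linter.style.haveILetI false
set_option maxHeartbeats 1000000

open AlgebraicGeometry CategoryTheory IsLocalRing TopologicalSpace Topology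
open Groth.Agent.Codepth5

namespace Groth.Agent.H1AssDim

variable {X Y : Scheme.{u}} (f : X ⟶ Y) (F : X.Modules)

/-- The support of the restriction of `F` to a fibre. -/
abbrev fibSupp (s : Y) : Set ↥(f.fiber s) :=
  {z : ↥(f.fiber s) | Nontrivial (((Scheme.Modules.pullback (f.fiberι s)).obj F).presheaf.stalk z)}

theorem fibSupp_eq (hF : CohB1.IsFP F) (s : Y) : fibSupp f F s = f.fiberι s ⁻¹' CohB1.support F :=
  Set.ext fun w => nontrivial_fibre_stalk_iff f F hF s w

theorem isClosed_fibSupp (hF : CohB1.IsFP F) (s : Y) : IsClosed (fibSupp f F s) := by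
  rw [fibSupp_eq f F hF s]
  exact (QCoh.isClosed_support_of_isFT (QCoh.isQCoh_of_isFP hF) (QCoh.isFT_of_isFP hF)).preimage (f.fiberι s).continuous

theorem exists_fibre_point (s : Y) (t : X) (ht : f t = s) : ∃ w : ↥(f.fiber s), f.fiberι s w = t := by
  have : t ∈ Set.range (f.fiberι s) := by rw [Scheme.Hom.range_fiberι]; exact ht
  exact this

/-- Conditions on the generizations in the fibre. -/
theorem forall_fibre_gen_iff (x : X) (P : ↥(f.fiber (f.base x)) → Prop) (Q : X → Prop)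
    (h : ∀ z, P z ↔ Q (f.fiberι (f.base x) z)) :
    (∀ z, f.asFiber x ∈ closure {z} → P z) ↔ XGen f Q x := by
  constructor
  · intro hp t ht he
    obtain ⟨z, rfl⟩ := exists_fibre_point f (f.base x) t he
    refine (h z).1 (hp z (specializes_iff_mem_closure.1 ((FibDim.fiberι_specializes_iff f z _).1 ?_)))
    rwa [f.fiberι_asFiber]
  · intro hq z hz
    have h1 := (specializes_iff_mem_closure.2 hz).map (f.fiberι (f.base x)).continuous
    rw [f.fiberι_asFiber] at h1
    exact (h z).2 (hq _ h1 (FibDim.fiber_apply_fiberι f z))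

theorem xmin_iff_fibre (hF : CohB1.IsFP F) (s : Y) (w : ↥(f.fiber s)) :
    XMin f F (f.fiberι s w) ↔ w ∈ fibSupp f F s ∧ ∀ w' ∈ fibSupp f F s, w' ⤳ w → w' = w := by
  rw [fibSupp_eq f F hF s]
  refine and_congr_right fun _ => ⟨fun h w' hw' hsp => ?_, fun h t ht he htF => ?_⟩
  · exact (f.fiberι s).isEmbedding.injective (h _ ((FibDim.fiberι_specializes_iff f _ _).2 hsp)
      ((FibDim.fiber_apply_fiberι f w').trans (FibDim.fiber_apply_fiberι f w).symm) hw')
  · obtain ⟨w', rfl⟩ := exists_fibre_point f s t (he.trans (FibDim.fiber_apply_fiberι f w))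
    rw [h w' htF ((FibDim.fiberι_specializes_iff f _ _).1 ht)]

/-- Every point of the support has a minimal generization in its fibre. -/
theorem exists_xmin (hF : CohB1.IsFP F) {t : X} (ht : t ∈ CohB1.support F) :
    ∃ t', t' ⤳ t ∧ f t' = f t ∧ XMin f F t' := by
  have hc := isClosed_fibSupp f F hF (f t)
  haveI : QuasiSober ↥(fibSupp f F (f t)) := hc.isClosedEmbedding_subtypeVal.quasiSober
  have hw : f.asFiber t ∈ fibSupp f F (f t) := by
    rw [fibSupp_eq f F hF]; show f.fiberι (f t) (f.asFiber t) ∈ CohB1.support F; rwa [f.fiberι_asFiber]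
  obtain ⟨η, hη, hmax⟩ := FibDim.exists_maximal_generization (⟨f.asFiber t, hw⟩ : ↥(fibSupp f F (f t)))
  refine ⟨f.fiberι (f t) η.1, ?_, FibDim.fiber_apply_fiberι f η.1, (xmin_iff_fibre f F hF _ η.1).2 ⟨η.2, ?_⟩⟩
  · have h1 := (hη.map continuous_subtype_val).map (f.fiberι (f t)).continuous
    rwa [f.fiberι_asFiber] at h1
  · intro w hw' hsp
    exact congrArg Subtype.val (hmax ⟨w, hw'⟩ (IsInducing.subtypeVal.specializes_iff.1 hsp))

/-- No embedded associated points through `x`, two ways. -/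
theorem noEmb_iff [LocallyOfFiniteType f] (hF : CohB1.IsFP F) (x : X) :
    (∀ z ∈ AssSch.Ass ((Scheme.Modules.pullback (f.fiberι (f.base x))).obj F), f.asFiber x ∈ closure {z} →
      ∀ z' ∈ AssSch.Ass ((Scheme.Modules.pullback (f.fiberι (f.base x))).obj F), z ∈ closure {z'} → z' = z) ↔
    XGen f (fun t => XAss f F t → XMin f F t) x := by
  haveI : IsLocallyNoetherian (f.fiber (f.base x)) :=
    LocallyOfFiniteType.isLocallyNoetherian (f.fiberToSpecResidueField (f.base x))
  have hsupp : ∀ z ∈ AssSch.Ass ((Scheme.Modules.pullback (f.fiberι (f.base x))).obj F), z ∈ fibSupp f F (f.base x) :=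
    fun z hz => not_subsingleton_iff_nontrivial.1 (AssLib.mem_support_of_mem_ass hz)
  have hQ := QCoh.isQCoh_pullback (f.fiberι (f.base x)) (QCoh.isQCoh_of_isFP hF)
  rw [← forall_fibre_gen_iff f x (fun z => z ∈ AssSch.Ass ((Scheme.Modules.pullback (f.fiberι (f.base x))).obj F) →
    z ∈ fibSupp f F (f.base x) ∧ ∀ w ∈ fibSupp f F (f.base x), w ⤳ z → w = z) _ fun z => by
      rw [mem_ass_iff f F hF, xmin_iff_fibre f F hF]]
  constructor
  · intro h z hzx hz
    refine ⟨hsupp z hz, fun w hw hwz => ?_⟩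
    obtain ⟨z', hz', hz'w⟩ := AssLib.exists_ass_specializes hQ (show w ∈ CohB1.support _ from
      not_subsingleton_iff_nontrivial.2 hw)
    have := h z hz hzx z' hz' (specializes_iff_mem_closure.1 (hz'w.trans hwz))
    subst this
    exact (hwz.antisymm hz'w).eq
  · intro h z hz hzx z' hz' hzz'
    exact (h z hzx hz).2 z' (hsupp z' hz') (specializes_iff_mem_closure.2 hzz')

theorem assDims_iff [LocallyOfFiniteType f] (hF : CohB1.IsFP F) (Φ : Finset ℕ) (s : Y) (z : ↥(f.fiber s)) :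
    (z ∈ AssSch.Ass ((Scheme.Modules.pullback (f.fiberι s)).obj F) →
      ∃ n ∈ Φ, topologicalKrullDim ↥(closure ({z} : Set ↥(f.fiber s))) = (n : WithBot ℕ∞)) ↔
    (XAss f F (f.fiberι s z) → (FibDim.rd f (f.fiberι s z) : ℕ∞) ∈ ((↑) : ℕ → ℕ∞) '' (Φ : Set ℕ)) := by
  rw [mem_ass_iff f F hF, dim_closure_fibre f s z]
  refine imp_congr_right fun _ => ⟨?_, ?_⟩
  · rintro ⟨n, hn, h⟩
    exact ⟨n, hn, (WithBot.coe_injective h).symm⟩
  · rintro ⟨n, hn, h⟩
    exact ⟨n, hn, by rw [← h]; rfl⟩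

theorem isOpen_assDims [LocallyOfFinitePresentation f] (hF : CohB1.IsFP F) (hflat : FlatMod.IsFlatOver f F)
    (Φ : Finset ℕ) :
    IsOpen {x : X | ∀ z ∈ AssSch.Ass ((Scheme.Modules.pullback (f.fiberι (f.base x))).obj F), f.asFiber x ∈ closure {z} →
      ∃ n ∈ Φ, topologicalKrullDim ↥(closure ({z} : Set ↥(f.fiber (f.base x)))) = (n : WithBot ℕ∞)} := by
  convert isOpen_xassGen f F hF hflat (((↑) : ℕ → ℕ∞) '' (Φ : Set ℕ)) using 1
  ext x
  exact Iff.trans ⟨fun h z hc hz => h z hz hc, fun h z hz hc => h z hc hz⟩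
    (forall_fibre_gen_iff f x _ _ fun z => assDims_iff f F hF Φ _ z)

theorem isOpen_noEmb [LocallyOfFinitePresentation f] (hF : CohB1.IsFP F) (hflat : FlatMod.IsFlatOver f F) :
    IsOpen {x : X | ∀ z ∈ AssSch.Ass ((Scheme.Modules.pullback (f.fiberι (f.base x))).obj F), f.asFiber x ∈ closure {z} →
      ∀ z' ∈ AssSch.Ass ((Scheme.Modules.pullback (f.fiberι (f.base x))).obj F), z ∈ closure {z'} → z' = z} := by
  convert isOpen_xnoEmb f F hF hflat using 1
  ext x
  exact noEmb_iff f F hF x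

/-- The image of an open part of the support is a neighbourhood. -/
theorem image_support_mem_nhds [LocallyOfFinitePresentation f] (hF : CohB1.IsFP F) (hflat : FlatMod.IsFlatOver f F)
    {O : Set X} (hO : IsOpen O) {x : X} (hx : x ∈ O) (hxF : x ∈ CohB1.support F) :
    f '' (O ∩ CohB1.support F) ∈ nhds (f x) := by
  obtain ⟨U, hU, V, hV, hUV, hxU⟩ := exists_chart f x
  letI : Algebra Γ(Y, V) Γ(X, U) := (f.appLE V U hUV).hom.toAlgebra
  haveI : Algebra.FinitePresentation Γ(Y, V) Γ(X, U) := f.finitePresentation_appLE hV hU hUV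
  letI : Module Γ(Y, V) Γ(F, U) := Module.compHom _ (f.appLE V U hUV).hom
  haveI : IsScalarTower Γ(Y, V) Γ(X, U) Γ(F, U) := IsScalarTower.of_algebraMap_smul fun _ _ => rfl
  haveI := QCoh.finitePresentation_of_isFP hF hU
  haveI : Module.Flat Γ(Y, V) Γ(F, U) :=
    (QCoh.flat_appLE_iff f (QCoh.isQCoh_of_isFP hF) hU hV hUV).2 fun z _ => hflat z
  let q := hU.primeIdealOf ⟨x, hxU⟩
  obtain ⟨_, ⟨g, rfl⟩, hqg, hgO⟩ := PrimeSpectrum.isTopologicalBasis_basic_opens.exists_subset_of_mem_open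
    (show q ∈ hU.fromSpec ⁻¹' O by show hU.fromSpec q ∈ O; rw [hU.fromSpec_primeIdealOf ⟨x, hxU⟩]; exact hx)
    (hO.preimage hU.fromSpec.continuous)
  have hTo := isOpen_image_support (A := Γ(Y, V)) (M := Γ(F, U)) g
  have hcomm : ∀ t : PrimeSpectrum Γ(X, U),
      f (hU.fromSpec t) = hV.fromSpec (PrimeSpectrum.comap (algebraMap Γ(Y, V) Γ(X, U)) t) :=
    fun t => FibDim.fromSpec_comm f hV hU hUV t
  refine Filter.mem_of_superset ((hV.fromSpec.isOpenEmbedding.isOpenMap _ hTo).mem_nhds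
    ⟨_, ⟨q, ⟨hqg, (QCoh.mem_moduleSupport_iff (QCoh.isQCoh_of_isFP hF) hU hxU).2 hxF⟩, rfl⟩, ?_⟩) ?_
  · rw [← hcomm, hU.fromSpec_primeIdealOf ⟨x, hxU⟩]
  · rintro _ ⟨_, ⟨t, ⟨htg, htF⟩, rfl⟩, rfl⟩
    have hz : hU.fromSpec t ∈ U := (Set.ext_iff.1 hU.range_fromSpec _).1 (Set.mem_range_self t)
    have he : hU.primeIdealOf ⟨hU.fromSpec t, hz⟩ = t :=
      hU.fromSpec.isOpenEmbedding.injective (hU.fromSpec_primeIdealOf ⟨_, hz⟩)
    exact ⟨hU.fromSpec t, ⟨hgO htg, (QCoh.mem_moduleSupport_iff (QCoh.isQCoh_of_isFP hF) hU hz).1 (he.symm ▸ htF)⟩, hcomm t⟩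

/-- A dimension of a support component persists nearby. -/
theorem exists_min_rd_nhds [LocallyOfFinitePresentation f] (hF : CohB1.IsFP F) (hflat : FlatMod.IsFlatOver f F)
    {x : X} (hx : XMin f F x) :
    {y : Y | ∃ t, f t = y ∧ XMin f F t ∧ FibDim.rd f t = FibDim.rd f x} ∈ nhds (f x) := by
  obtain ⟨O, hO, hxO, h⟩ := exists_nhd_xmin f F hF hflat hx
  refine Filter.mem_of_superset (image_support_mem_nhds f F hF hflat hO hxO hx.1) ?_
  rintro _ ⟨t, ⟨htO, htF⟩, rfl⟩
  obtain ⟨t', hsp, he, hmin⟩ := exists_xmin f F hF htF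
  exact ⟨t', he, hmin, h t' (hsp.mem_open hO htO) hmin⟩

/-- The dimensions of the components of a closed subspace. -/
theorem image_dim_components {T : Type u} [TopologicalSpace T] [QuasiSober T] [T0Space T] {S : Set T} (hS : IsClosed S) :
    (fun Z : Set ↥S => topologicalKrullDim ↥Z) '' irreducibleComponents ↥S =
      {d | ∃ z ∈ S, (∀ z' ∈ S, z' ⤳ z → z' = z) ∧ topologicalKrullDim ↥(closure ({z} : Set T)) = d} := by
  haveI : QuasiSober ↥S := hS.isClosedEmbedding_subtypeVal.quasiSober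
  have hdim : ∀ s : ↥S, topologicalKrullDim ↥(closure ({s} : Set ↥S)) = topologicalKrullDim ↥(closure ({s.1} : Set T)) :=
    fun s => by
      rw [FibDim.topologicalKrullDim_range_closed, ← hS.isClosedEmbedding_subtypeVal.closure_image_eq, Set.image_singleton]
  ext d
  constructor
  · rintro ⟨Z, hZ, rfl⟩
    obtain ⟨η, hη, hmax⟩ := FDescent.exists_maximal_of_mem_irreducibleComponents hZ
    refine ⟨η.1, η.2, fun z hz hsp => congrArg Subtype.val (hmax ⟨z, hz⟩ (IsInducing.subtypeVal.specializes_iff.1 hsp)), ?_⟩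
    rw [← hdim η, hη]
  · rintro ⟨z, hz, hmax, rfl⟩
    refine ⟨closure {(⟨z, hz⟩ : ↥S)}, ⟨isIrreducible_singleton.closure, fun W hW hle => ?_⟩, hdim ⟨z, hz⟩⟩
    obtain ⟨ζ, hζ⟩ := QuasiSober.sober hW.closure isClosed_closure
    have h1 : ζ ⤳ (⟨z, hz⟩ : ↥S) := hζ.specializes (subset_closure (hle (subset_closure rfl)))
    obtain rfl : ζ = ⟨z, hz⟩ := Subtype.ext (hmax ζ.1 ζ.2 (h1.map continuous_subtype_val))
    exact subset_closure.trans hζ.symm.le

end Groth.Agent.H1AssDim
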