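import Groth.Agent.H1AssDim.LocalModule
import Groth.Agent.H1AssDim.Fibre
import Mathlib

/-!
# Equidimensional fibres with Serre's conditions (EGA IV 12.1.1)
-/

universe u

set_option backward.isDefEq.respectTransparency false
set_option backward.isDefEq.respectTransparency.types false
set_option linter.style.haveILetI false
set_option maxHeartbeats 1000000

open AlgebraicGeometry CategoryTheory IsLocalRing TopologicalSpace Topology
open Groth.Agent.Codepth5

namespace Groth.Agent.H1AssDim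

variable {X Y : Scheme.{u}} (f : X ⟶ Y) (F : X.Modules)

/-- The inequality of `(S_k)` at `x` in its fibre. -/
def XSk (k : ℕ) (x : X) : Prop :=
  min (k : WithBot ℕ∞) (dd (X.presheaf.stalk x) (F.presheaf.stalk x ⧸ (fibIdeal f x • ⊤ : Submodule (X.presheaf.stalk x) (F.presheaf.stalk x)))).1 ≤
    (((dd (X.presheaf.stalk x) (F.presheaf.stalk x ⧸ (fibIdeal f x • ⊤ : Submodule (X.presheaf.stalk x) (F.presheaf.stalk x)))).2 : ℕ∞) : WithBot ℕ∞)

theorem isOpen_xskGen [LocallyOfFinitePresentation f] (hF : CohB1.IsFP F) (hflat : FlatMod.IsFlatOver f F) (k : ℕ) :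
    IsOpen {x : X | XGen f (XSk f F k) x} := by
  refine isOpen_of_charts f F hF hflat _ (fun A B _ _ _ M _ _ => Gen A (fun t => SkOne A M k t.asIdeal))
    (fun A B _ _ _ _ M _ _ _ _ _ _ => ?_)
    fun U hU V hV hle x hx => xgen_chart_iff f hU hV hle _ _ (fun z hz => ?_) hx
  · convert isOpen_skGen_affine (A := A) (B := B) M k using 1
    ext q
    exact ⟨fun h t ht => h t.1 ht t.2, fun h t ht he => h ⟨t, he⟩ ht⟩
  · letI := QCoh.stalkModule F hz
    haveI := QCoh.isLocalizedModule_germLin (QCoh.isQCoh_of_isFP hF) hU hz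
    rw [XSk, dd_chart_eq f hU hV hle hz (fun _ _ => rfl) (QCoh.germLin F hz)]
    rfl

/-- `(S_k)` of a fibre stalk, by the generizations in the fibre. -/
theorem hasSk_fibre_iff [LocallyOfFiniteType f] (hF : CohB1.IsFP F) (k : ℕ) (s : Y) (w : ↥(f.fiber s)) :
    LocCoh.HasSk k ((f.fiber s).presheaf.stalk w) (((Scheme.Modules.pullback (f.fiberι s)).obj F).presheaf.stalk w) ↔
      ∀ z : ↥(f.fiber s), z ⤳ w → XSk f F k (f.fiberι s z) := by
  have hQ := QCoh.isQCoh_pullback (f.fiberι s) (QCoh.isQCoh_of_isFP hF)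
  set G := (Scheme.Modules.pullback (f.fiberι s)).obj F
  obtain ⟨W, hW, hwW, -⟩ := exists_isAffineOpen_mem_and_subset (x := w) (U := (⊤ : (f.fiber s).Opens)) trivial
  letI := QCoh.stalkAlg (X := f.fiber s) hwW
  letI := QCoh.stalkModule G hwW
  haveI := QCoh.isScalarTower_stalk G hwW
  haveI := QCoh.isLocalization_stalk' hW hwW
  haveI := QCoh.isLocalizedModule_germLin hQ hW hwW
  rw [hasSk_localized_iff (q := hW.primeIdealOf ⟨w, hwW⟩) (QCoh.germLin G hwW) k]
  have key : ∀ (z : ↥(f.fiber s)) (hz : z ∈ W),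
      dd (Localization.AtPrime (hW.primeIdealOf ⟨z, hz⟩).asIdeal)
        (LocalizedModule (hW.primeIdealOf ⟨z, hz⟩).asIdeal.primeCompl Γ(G, W)) =
      dd (X.presheaf.stalk (f.fiberι s z)) (F.presheaf.stalk (f.fiberι s z) ⧸
        (fibIdeal f (f.fiberι s z) • ⊤ : Submodule (X.presheaf.stalk (f.fiberι s z)) (F.presheaf.stalk (f.fiberι s z)))) := by
    intro z hz
    letI := QCoh.stalkAlg (X := f.fiber s) hz
    letI := QCoh.stalkModule G hz
    haveI := QCoh.isScalarTower_stalk G hz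
    haveI := QCoh.isLocalization_stalk' hW hz
    haveI := QCoh.isLocalizedModule_germLin hQ hW hz
    rw [← fibre_dd_eq f F _ s z rfl]
    exact (Prod.ext (Alg6.supportDim_localized_eq _ _ (QCoh.germLin G hz))
      (Alg6.depth_localized_eq _ _ (QCoh.germLin G hz))).symm
  constructor
  · intro h z hz
    have hzW : z ∈ W := hz.mem_open W.2 hwW
    rw [XSk, ← key z hzW]
    exact h _ ((AssLib.primeIdealOf_le_iff hW hwW hzW).2 hz)
  · intro h t ht
    obtain ⟨z, hzW, rfl⟩ := QCoh.exists_point hW t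
    have := h z ((AssLib.primeIdealOf_le_iff hW hwW hzW).1 ht)
    rw [XSk, ← key z hzW] at this
    exact this

/-- Equidimensionality of a fibre stalk, by the minimal generizations in the fibre. -/
theorem isEquidimModule_fibre_iff [LocallyOfFiniteType f] (hF : CohB1.IsFP F) (s : Y) (w : ↥(f.fiber s)) :
    EGA4.IsEquidimModule ((f.fiber s).presheaf.stalk w) (((Scheme.Modules.pullback (f.fiberι s)).obj F).presheaf.stalk w) ↔
      ∀ z z' : ↥(f.fiber s), z ⤳ w → z' ⤳ w → XMin f F (f.fiberι s z) → XMin f F (f.fiberι s z') →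
        FibDim.rd f (f.fiberι s z) = FibDim.rd f (f.fiberι s z') := by
  have hQ := QCoh.isQCoh_pullback (f.fiberι s) (QCoh.isQCoh_of_isFP hF)
  set G := (Scheme.Modules.pullback (f.fiberι s)).obj F
  haveI := finite_fibre_stalk f F hF s w
  obtain ⟨W, hW, hwW, -⟩ := exists_isAffineOpen_mem_and_subset (x := w) (U := (⊤ : (f.fiber s).Opens)) trivial
  letI := QCoh.stalkAlg (X := f.fiber s) hwW
  letI := QCoh.stalkModule G hwW
  haveI := QCoh.isScalarTower_stalk G hwW
  haveI := QCoh.isLocalization_stalk' hW hwW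
  haveI := QCoh.isLocalizedModule_germLin hQ hW hwW
  obtain ⟨halg, hft⟩ := VarDim.exists_algebra (k := Y.residueField s) (f.fiberToSpecResidueField s) hW
  rw [isEquidimModule_localized_iff (q := hW.primeIdealOf ⟨w, hwW⟩) (QCoh.germLin G hwW) (Y.residueField s)]
  have hmin : ∀ (z : ↥(f.fiber s)) (hz : z ∈ W),
      (hW.primeIdealOf ⟨z, hz⟩ ∈ Module.support Γ(f.fiber s, W) Γ(G, W) ∧
        ∀ t, t ≤ hW.primeIdealOf ⟨z, hz⟩ → t ∈ Module.support Γ(f.fiber s, W) Γ(G, W) → t = hW.primeIdealOf ⟨z, hz⟩) ↔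
      XMin f F (f.fiberι s z) := by
    intro z hz
    rw [xmin_iff_fibre f F hF s z, QCoh.mem_moduleSupport_iff hQ hW hz]
    refine and_congr (not_subsingleton_iff_nontrivial) ⟨fun h z' hz'S hsp => ?_, fun h t ht htS => ?_⟩
    · have hz'W : z' ∈ W := hsp.mem_open W.2 hz
      exact AssLib.eq_of_primeIdealOf_eq hW hz hz'W (congrArg PrimeSpectrum.asIdeal
        (h _ ((AssLib.primeIdealOf_le_iff hW hz hz'W).2 hsp)
          ((QCoh.mem_moduleSupport_iff hQ hW hz'W).2 (not_subsingleton_iff_nontrivial.2 hz'S))))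
    · obtain ⟨z', hz'W, rfl⟩ := QCoh.exists_point hW t
      obtain rfl := h z' (not_subsingleton_iff_nontrivial.1 ((QCoh.mem_moduleSupport_iff hQ hW hz'W).1 htS))
        ((AssLib.primeIdealOf_le_iff hW hz hz'W).1 ht)
      rfl
  have hco : ∀ (z : ↥(f.fiber s)) (hz : z ∈ W),
      Order.coheight (hW.primeIdealOf ⟨z, hz⟩) = (FibDim.rd f (f.fiberι s z) : ℕ∞) := fun z hz => by
    rw [VarDim.deg_eq_coheight (k := Y.residueField s) (f.fiberToSpecResidueField s) hW, hW.fromSpec_primeIdealOf ⟨z, hz⟩,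
      FibDim.deg_fiber]
  constructor
  · intro h z z' hz hz' hm hm'
    have hzW : z ∈ W := hz.mem_open W.2 hwW
    have hz'W : z' ∈ W := hz'.mem_open W.2 hwW
    have := h _ _ ⟨(AssLib.primeIdealOf_le_iff hW hwW hzW).2 hz, (hmin z hzW).2 hm⟩
      ⟨(AssLib.primeIdealOf_le_iff hW hwW hz'W).2 hz', (hmin z' hz'W).2 hm'⟩
    rw [hco, hco] at this
    exact_mod_cast this
  · rintro h t t' ⟨ht, htm⟩ ⟨ht', htm'⟩
    obtain ⟨z, hzW, rfl⟩ := QCoh.exists_point hW t
    obtain ⟨z', hz'W, rfl⟩ := QCoh.exists_point hW t'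
    rw [hco, hco, h z z' ((AssLib.primeIdealOf_le_iff hW hwW hzW).1 ht) ((AssLib.primeIdealOf_le_iff hW hwW hz'W).1 ht')
      ((hmin z hzW).1 htm) ((hmin z' hz'W).1 htm')]

/-- Points with `(S_1)` in the fibre which are associated are minimal. -/
theorem xmin_of_xsk [LocallyOfFinitePresentation f] (hF : CohB1.IsFP F) {k : ℕ} (hk : 1 ≤ k) (s : Y) (w : ↥(f.fiber s))
    (hsk : XSk f F k (f.fiberι s w)) (ha : XAss f F (f.fiberι s w)) : XMin f F (f.fiberι s w) := by
  haveI : IsLocallyNoetherian (f.fiber s) := LocallyOfFiniteType.isLocallyNoetherian (f.fiberToSpecResidueField s)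
  have hQ := QCoh.isQCoh_pullback (f.fiberι s) (QCoh.isQCoh_of_isFP hF)
  set G := (Scheme.Modules.pullback (f.fiberι s)).obj F
  have hwS : w ∈ fibSupp f F s :=
    not_subsingleton_iff_nontrivial.1 (AssLib.mem_support_of_mem_ass ((mem_ass_iff f F hF s w).2 ha))
  refine (xmin_iff_fibre f F hF s w).2 ⟨hwS, fun w' hw' hsp => ?_⟩
  obtain ⟨W, hW, hwW, -⟩ := exists_isAffineOpen_mem_and_subset (x := w) (U := (⊤ : (f.fiber s).Opens)) trivial
  letI := QCoh.stalkAlg (X := f.fiber s) hwW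
  letI := QCoh.stalkModule G hwW
  haveI := QCoh.isScalarTower_stalk G hwW
  haveI := QCoh.isLocalization_stalk' hW hwW
  haveI := QCoh.isLocalizedModule_germLin hQ hW hwW
  have hw'W : w' ∈ W := hsp.mem_open W.2 hwW
  refine AssLib.eq_of_primeIdealOf_eq hW hwW hw'W (congrArg PrimeSpectrum.asIdeal
    (eq_of_supportDim_le_zero ((AssLib.primeIdealOf_le_iff hW hwW hw'W).2 hsp)
      ((QCoh.mem_moduleSupport_iff hQ hW hw'W).2 (not_subsingleton_iff_nontrivial.2 hw')) ?_))
  rw [← Alg6.supportDim_localized_eq _ ((f.fiber s).presheaf.stalk w) (QCoh.germLin G hwW),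
    show Module.supportDim ((f.fiber s).presheaf.stalk w) (G.presheaf.stalk w) = _ from congrArg Prod.fst (fibre_dd_eq f F _ s w rfl)]
  rw [XSk, show (dd (X.presheaf.stalk (f.fiberι s w)) _).2 = 0 from ha] at hsk
  change min (k : WithBot ℕ∞) _ ≤ (0 : WithBot ℕ∞) at hsk
  rcases min_le_iff.1 hsk with h | h
  · have h' : k ≤ 0 := by exact_mod_cast h
    omega
  · exact h

/-- EGA IV 12.1.1: equidimensional with `(S_k)` is open. -/
theorem isOpen_equidim_sk [LocallyOfFinitePresentation f] (hF : CohB1.IsFP F) (hflat : FlatMod.IsFlatOver f F)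
    {k : ℕ} (hk : 1 ≤ k) :
    IsOpen {x : X | EGA4.IsEquidimModule ((f.fiber (f.base x)).presheaf.stalk (f.asFiber x)) (((Scheme.Modules.pullback (f.fiberι (f.base x))).obj F).presheaf.stalk (f.asFiber x)) ∧ LocCoh.HasSk k ((f.fiber (f.base x)).presheaf.stalk (f.asFiber x)) (((Scheme.Modules.pullback (f.fiberι (f.base x))).obj F).presheaf.stalk (f.asFiber x))} := by
  convert (isOpen_iUnion fun e : ℕ => isOpen_xassGen f F hF hflat {(e : ℕ∞)}).inter (isOpen_xskGen f F hF hflat k) using 1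
  ext x
  simp only [Set.mem_inter_iff, Set.mem_iUnion, Set.mem_ofPred_eq, hasSk_fibre_iff f F hF, isEquidimModule_fibre_iff f F hF]
  rw [← forall_fibre_gen_iff f x (fun z => XSk f F k (f.fiberι (f.base x) z)) _ fun z => Iff.rfl]
  simp only [← specializes_iff_mem_closure]
  refine and_congr_left fun hsk => ⟨fun h => ?_, fun ⟨e, he⟩ z z' hz hz' hm hm' => ?_⟩
  · have hmin : ∀ z, z ⤳ f.asFiber x → XAss f F (f.fiberι (f.base x) z) → XMin f F (f.fiberι (f.base x) z) :=
      fun z hz ha => xmin_of_xsk f F hF hk _ z (hsk z hz) ha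
    by_cases hex : ∃ z, z ⤳ f.asFiber x ∧ XAss f F (f.fiberι (f.base x) z)
    · obtain ⟨z₀, hz₀, ha₀⟩ := hex
      refine ⟨FibDim.rd f (f.fiberι (f.base x) z₀), (forall_fibre_gen_iff f x _ _ fun z => Iff.rfl).1 fun z hz ha => ?_⟩
      have hz' := specializes_iff_mem_closure.2 hz
      rw [Set.mem_singleton_iff, h z z₀ hz' hz₀ (hmin z hz' ha) (hmin z₀ hz₀ ha₀)]
    · refine ⟨0, (forall_fibre_gen_iff f x _ _ fun z => Iff.rfl).1 fun z hz ha => ?_⟩
      exact absurd ⟨z, specializes_iff_mem_closure.2 hz, ha⟩ hex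
  · haveI : IsLocallyNoetherian (f.fiber (f.base x)) :=
      LocallyOfFiniteType.isLocallyNoetherian (f.fiberToSpecResidueField (f.base x))
    have key : ∀ z, z ⤳ f.asFiber x → XMin f F (f.fiberι (f.base x) z) → (FibDim.rd f (f.fiberι (f.base x) z) : ℕ∞) = e := by
      intro z hz hm
      obtain ⟨hzS, hmax⟩ := (xmin_iff_fibre f F hF _ z).1 hm
      obtain ⟨z₁, hz₁, hsp⟩ := AssLib.exists_ass_specializes
        (QCoh.isQCoh_pullback (f.fiberι (f.base x)) (QCoh.isQCoh_of_isFP hF))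
        (show z ∈ CohB1.support _ from not_subsingleton_iff_nontrivial.2 hzS)
      obtain rfl := hmax z₁ (not_subsingleton_iff_nontrivial.1 (AssLib.mem_support_of_mem_ass hz₁)) hsp
      exact (forall_fibre_gen_iff f x _ _ fun _ => Iff.rfl).2 he z₁ (specializes_iff_mem_closure.1 hz) ((mem_ass_iff f F hF _ z₁).1 hz₁)
    exact_mod_cast (key z hz hm).trans (key z' hz' hm').symm

end Groth.Agent.H1AssDim
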