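import Groth.Agent.Codepth5.Module
import Groth.Agent.Alg6.LocLoc
import Groth.Agent.VarDim.Catenary
import Groth.Prelude.Def_EGA4b
import Mathlib

/-!
# Equidimensionality and Serre's conditions of a localized module, by the primes below
-/

universe u

set_option linter.style.haveILetI false
set_option maxHeartbeats 1000000

open IsLocalRing Topology Groth.Agent.Codepth5

namespace Groth.Agent.H1AssDim

/-- A finite module over a ring is equidimensional iff the quotients by its minimal primes have equal dimension. -/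
theorem isEquidimModule_iff {L G : Type u} [CommRing L] [AddCommGroup G] [Module L G] [Module.Finite L G] :
    EGA4.IsEquidimModule L G ↔ ∀ p ∈ (Module.annihilator L G).minimalPrimes,
      ∀ p' ∈ (Module.annihilator L G).minimalPrimes, ringKrullDim (L ⧸ p) = ringKrullDim (L ⧸ p') := by
  refine ⟨fun h p hp p' hp' => (h p hp).trans (h p' hp').symm, fun h p hp => ?_⟩
  rw [Module.supportDim_eq_ringKrullDim_quotient_annihilator]
  refine le_antisymm (ringKrullDim_le_of_surjective (Ideal.Quotient.factor hp.1.2) (Ideal.Quotient.factor_surjective hp.1.2)) ?_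
  rw [ringKrullDim_quotient (Module.annihilator L G)]
  refine iSup_le fun l => ?_
  haveI : (l.head.1.asIdeal).IsPrime := l.head.1.2
  obtain ⟨p'', hp'', hle⟩ := Ideal.exists_minimalPrimes_le (show Module.annihilator L G ≤ l.head.1.asIdeal from l.head.2)
  rw [h p hp p'' hp'', ringKrullDim_quotient p'']
  exact le_iSup (fun m : LTSeries ↥(PrimeSpectrum.zeroLocus (p'' : Set L)) => (m.length : WithBot ℕ∞))
    ⟨l.length, fun i => ⟨(l i).1, show p'' ≤ (l i).1.asIdeal from hle.trans (l.head_le i)⟩, fun i => l.step i⟩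

variable {R : Type u} [CommRing R] {q : PrimeSpectrum R} {L : Type u} [CommRing L] [Algebra R L]
  [IsLocalization.AtPrime L q.asIdeal] {N G : Type u} [AddCommGroup N] [Module R N] [AddCommGroup G] [Module R G]
  [Module L G] [IsScalarTower R L G] (g : N →ₗ[R] G) [IsLocalizedModule q.asIdeal.primeCompl g]

variable (q L) in
theorem comap_le (Q : PrimeSpectrum L) : PrimeSpectrum.comap (algebraMap R L) Q ≤ q := fun x hx => by
  by_contra hn
  exact Q.2.ne_top (Ideal.eq_top_of_isUnit_mem _ hx (IsLocalization.map_units L (⟨x, hn⟩ : q.asIdeal.primeCompl)))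

variable (q L) in
theorem exists_comap_eq {t : PrimeSpectrum R} (ht : t ≤ q) :
    ∃ Q : PrimeSpectrum L, PrimeSpectrum.comap (algebraMap R L) Q = t := by
  have : t ∈ Set.range (PrimeSpectrum.comap (algebraMap R L)) := by
    rw [PrimeSpectrum.localization_comap_range L q.asIdeal.primeCompl]
    exact Set.disjoint_left.2 fun x hx hxt => hx (ht hxt)
  exact this

variable (q L) in
include q in
theorem comap_le_comap_iff (Q Q' : PrimeSpectrum L) :
    PrimeSpectrum.comap (algebraMap R L) Q ≤ PrimeSpectrum.comap (algebraMap R L) Q' ↔ Q ≤ Q' := by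
  rw [PrimeSpectrum.le_iff_specializes, PrimeSpectrum.le_iff_specializes]
  exact (PrimeSpectrum.localization_comap_isEmbedding L q.asIdeal.primeCompl).isInducing.specializes_iff

include q g in
theorem mem_support_localized_iff (Q : PrimeSpectrum L) :
    Q ∈ Module.support L G ↔ PrimeSpectrum.comap (algebraMap R L) Q ∈ Module.support R N := by
  rw [Module.mem_support_iff', Module.mem_support_iff']
  constructor
  · rintro ⟨x, hx⟩
    obtain ⟨⟨n, s⟩, hns⟩ := IsLocalizedModule.surj q.asIdeal.primeCompl g x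
    refine ⟨n, fun r hr h0 => hx (algebraMap R L r * algebraMap R L (s : R)) (fun hmem => ?_) ?_⟩
    · rcases Q.2.mem_or_mem hmem with h | h
      · exact hr h
      · exact s.2 (comap_le q L Q h)
    · rw [mul_smul, algebraMap_smul, algebraMap_smul]
      show r • s • x = 0
      rw [hns, ← map_smul, h0, map_zero]
  · rintro ⟨n, hn⟩
    refine ⟨g n, fun l hl h0 => ?_⟩
    obtain ⟨⟨a, t⟩, hat⟩ := IsLocalization.surj q.asIdeal.primeCompl l
    have ha : a ∉ (PrimeSpectrum.comap (algebraMap R L) Q).asIdeal := fun h => by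
      have h' : l * algebraMap R L (t : R) ∈ Q.asIdeal := hat ▸ h
      rcases Q.2.mem_or_mem h' with h' | h'
      · exact hl h'
      · exact t.2 (comap_le q L Q h')
    have h1 : g (a • n) = 0 := by
      rw [map_smul, ← algebraMap_smul L a, ← hat, mul_comm, mul_smul, h0, smul_zero]
    obtain ⟨c, hc⟩ := (IsLocalizedModule.eq_zero_iff q.asIdeal.primeCompl g).1 h1
    refine hn ((c : R) * a) (fun h => ?_) (by rw [mul_smul]; exact hc)
    rcases (PrimeSpectrum.comap (algebraMap R L) Q).2.mem_or_mem h with h | h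
    · exact c.2 (comap_le q L Q h)
    · exact ha h

include q g in
/-- The local invariants at a prime of the localization. -/
theorem dd_localized (P : Ideal L) [P.IsPrime] :
    dd (Localization.AtPrime P) (LocalizedModule P.primeCompl G) =
      dd (Localization.AtPrime (P.comap (algebraMap R L))) (LocalizedModule (P.comap (algebraMap R L)).primeCompl N) := by
  haveI := IsLocalization.isLocalization_isLocalization_atPrime_isLocalization q.asIdeal.primeCompl
    (Localization.AtPrime P) P
  let h := ((LocalizedModule.mkLinearMap P.primeCompl G).restrictScalars R).comp g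
  haveI : IsLocalizedModule (P.comap (algebraMap R L)).primeCompl h := by
    rw [isLocalizedModule_iff_isBaseChange _ (Localization.AtPrime P)]
    exact (IsLocalizedModule.isBaseChange q.asIdeal.primeCompl L g).comp
      (IsLocalizedModule.isBaseChange P.primeCompl (Localization.AtPrime P) (LocalizedModule.mkLinearMap P.primeCompl G))
  exact Prod.ext (Alg6.supportDim_localized_eq _ _ h) (Alg6.depth_localized_eq _ _ h)

include q g in
/-- `(S_k)` of the localization. -/
theorem hasSk_localized_iff (k : ℕ) :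
    LocCoh.HasSk k L G ↔ ∀ t : PrimeSpectrum R, t ≤ q →
      min (k : WithBot ℕ∞) (dd (Localization.AtPrime t.asIdeal) (LocalizedModule t.asIdeal.primeCompl N)).1 ≤
        (((dd (Localization.AtPrime t.asIdeal) (LocalizedModule t.asIdeal.primeCompl N)).2 : ℕ∞) : WithBot ℕ∞) := by
  constructor
  · intro h t ht
    obtain ⟨Q, rfl⟩ := exists_comap_eq q L ht
    have h2 := h Q.asIdeal
    have h3 := dd_localized (q := q) g Q.asIdeal
    rw [show Module.supportDim _ _ = _ from congrArg Prod.fst h3, show LocCoh.depth _ _ = _ from congrArg Prod.snd h3] at h2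
    exact h2
  · intro h P hP
    have h3 := dd_localized (q := q) g P
    rw [show Module.supportDim _ _ = _ from congrArg Prod.fst h3, show LocCoh.depth _ _ = _ from congrArg Prod.snd h3]
    exact h ⟨P.comap (algebraMap R L), inferInstance⟩ (comap_le q L ⟨P, hP⟩)

/-- A point where the support has dimension zero is minimal in the support. -/
theorem eq_of_supportDim_le_zero {t s : PrimeSpectrum R} (hs : s ≤ t) (hsN : s ∈ Module.support R N)
    (h : Module.supportDim (Localization.AtPrime t.asIdeal) (LocalizedModule t.asIdeal.primeCompl N) ≤ 0) : s = t := by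
  let T := Localization.AtPrime t.asIdeal
  let gt := LocalizedModule.mkLinearMap t.asIdeal.primeCompl N
  obtain ⟨Q, rfl⟩ := exists_comap_eq t T hs
  obtain ⟨Q₀, hQ₀⟩ := exists_comap_eq t T (le_refl t)
  have hle : Q ≤ Q₀ := (comap_le_comap_iff t T Q Q₀).1 (by rw [hQ₀]; exact hs)
  have hQ := (mem_support_localized_iff (q := t) gt Q).2 hsN
  have h' : Order.krullDim ↥(Module.support T (LocalizedModule t.asIdeal.primeCompl N)) ≤ 0 := h
  have hmax := Order.krullDim_nonpos_iff_forall_isMax.1 h' ⟨Q, hQ⟩
  have heq : Q₀ ≤ Q := hmax (show (⟨Q, hQ⟩ : ↥(Module.support T (LocalizedModule t.asIdeal.primeCompl N))) ≤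
    ⟨Q₀, Module.mem_support_mono hle hQ⟩ from hle)
  rw [le_antisymm hle heq, hQ₀]

variable (k₀ : Type u) [Field k₀] [Algebra k₀ R] [Algebra.FiniteType k₀ R]

include k₀ in
variable (q L) in
/-- The dimension of a quotient of the localization. -/
theorem ringKrullDim_quot_add_coheight (P : PrimeSpectrum L) :
    ringKrullDim (L ⧸ P.asIdeal) + ((Order.coheight q : ℕ∞) : WithBot ℕ∞) =
      ((Order.coheight (PrimeSpectrum.comap (algebraMap R L) P) : ℕ∞) : WithBot ℕ∞) := by
  let p := PrimeSpectrum.comap (algebraMap R L) P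
  have hpq : p ≤ q := comap_le q L P
  let D := R ⧸ p.asIdeal
  let π := PrimeSpectrum.comap (Ideal.Quotient.mk p.asIdeal)
  let π' := PrimeSpectrum.comap (Ideal.Quotient.mk P.asIdeal)
  have hπ := PrimeSpectrum.isClosedEmbedding_comap_of_surjective _ (Ideal.Quotient.mk p.asIdeal) Ideal.Quotient.mk_surjective
  have hπ' := PrimeSpectrum.isClosedEmbedding_comap_of_surjective _ (Ideal.Quotient.mk P.asIdeal) Ideal.Quotient.mk_surjective
  have hle : ∀ a b, π a ≤ π b ↔ a ≤ b := fun a b => by
    rw [PrimeSpectrum.le_iff_specializes, PrimeSpectrum.le_iff_specializes]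
    exact hπ.isInducing.specializes_iff
  have hle' : ∀ a b, π' a ≤ π' b ↔ a ≤ b := fun a b => by
    rw [PrimeSpectrum.le_iff_specializes, PrimeSpectrum.le_iff_specializes]
    exact hπ'.isInducing.specializes_iff
  have hrange : ∀ r, p ≤ r → r ∈ Set.range π := fun r hr => by
    rw [_root_.range_comap_of_surjective _ _ Ideal.Quotient.mk_surjective, Ideal.mk_ker]
    exact hr
  have hrange' : ∀ Q, P ≤ Q → Q ∈ Set.range π' := fun Q hQ => by
    rw [_root_.range_comap_of_surjective _ _ Ideal.Quotient.mk_surjective, Ideal.mk_ker]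
    exact hQ
  obtain ⟨q', hq'⟩ := hrange q hpq
  let φ : D →+* L ⧸ P.asIdeal := Ideal.quotientMap P.asIdeal (algebraMap R L) le_rfl
  have hφ : ∀ Q, π (PrimeSpectrum.comap φ Q) = PrimeSpectrum.comap (algebraMap R L) (π' Q) := fun Q => by
    show PrimeSpectrum.comap _ (PrimeSpectrum.comap _ Q) = PrimeSpectrum.comap _ (PrimeSpectrum.comap _ Q)
    rw [← PrimeSpectrum.comap_comp_apply, ← PrimeSpectrum.comap_comp_apply]
    rfl
  let η : PrimeSpectrum (L ⧸ P.asIdeal) → ↥(Set.Iic q') := fun Q =>
    ⟨PrimeSpectrum.comap φ Q, (hle _ _).1 (by rw [hφ, hq']; exact comap_le q L (π' Q))⟩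
  have hη : ∀ a b, η a ≤ η b ↔ a ≤ b := fun a b => by
    show PrimeSpectrum.comap φ a ≤ PrimeSpectrum.comap φ b ↔ _
    rw [← hle, hφ, hφ, comap_le_comap_iff q L, hle']
  have hsurj : Function.Surjective η := fun s => by
    obtain ⟨Q, hQ⟩ := exists_comap_eq q L (t := π s.1) (by rw [← hq']; exact (hle _ _).2 s.2)
    have hps : p ≤ π s.1 := fun x hx => by
      show Ideal.Quotient.mk p.asIdeal x ∈ s.1.asIdeal
      rw [Ideal.Quotient.eq_zero_iff_mem.2 hx]
      exact s.1.asIdeal.zero_mem
    obtain ⟨Q', rfl⟩ := hrange' Q ((comap_le_comap_iff q L _ _).1 (by rw [hQ]; exact hps))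
    exact ⟨Q', Subtype.ext (hπ.injective ((hφ Q').trans hQ))⟩
  have hdim : ringKrullDim (L ⧸ P.asIdeal) = ((Order.height q' : ℕ∞) : WithBot ℕ∞) := by
    rw [Order.height_eq_krullDim_Iic]
    exact Order.krullDim_eq_of_orderIso (OrderIso.ofSurjective (OrderEmbedding.ofMapLEIff η hη) hsurj)
  have hco : Order.coheight q' = Order.coheight q := by
    rw [← hq']
    refine Order.coheight_eq_of_strictMono π (fun a b h => lt_of_le_not_ge ((hle _ _).2 h.le) fun h' => h.not_ge ((hle _ _).1 h'))
      (fun a b hb => ?_) q'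
    obtain ⟨b', rfl⟩ := hrange b ((show p ≤ π a from fun x hx => by
      show Ideal.Quotient.mk p.asIdeal x ∈ a.asIdeal
      rw [Ideal.Quotient.eq_zero_iff_mem.2 hx]
      exact a.asIdeal.zero_mem).trans hb.le)
    exact ⟨b', lt_of_le_not_ge ((hle _ _).1 hb.le) fun h => hb.not_ge ((hle _ _).2 h), rfl⟩
  obtain ⟨n, hn, -⟩ := VarDim.exists_dim_eq_trdeg k₀ D
  have h := VarDim.height_add_coheight_eq k₀ n D hn q'
  have hp : ((Order.coheight p : ℕ∞) : WithBot ℕ∞) = (n : WithBot ℕ∞) :=
    (VarDim.coheight_eq_ringKrullDim_quotient p).trans hn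
  rw [hdim, ← hco, ← WithBot.coe_add, h, hp]
  rfl

include g k₀ in
/-- Equidimensionality of the localization, through the minimal primes of the support. -/
theorem isEquidimModule_localized_iff [Module.Finite L G] :
    EGA4.IsEquidimModule L G ↔
      ∀ t t' : PrimeSpectrum R,
        (t ≤ q ∧ t ∈ Module.support R N ∧ ∀ s, s ≤ t → s ∈ Module.support R N → s = t) →
        (t' ≤ q ∧ t' ∈ Module.support R N ∧ ∀ s, s ≤ t' → s ∈ Module.support R N → s = t') →
          Order.coheight t = Order.coheight t' := by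
  have hne : ((Order.coheight q : ℕ∞) : WithBot ℕ∞) ≠ ⊤ ∧ Order.coheight q ≠ ⊤ :=
    ⟨fun h => VarDim.coheight_ne_top k₀ q (WithBot.coe_injective h), VarDim.coheight_ne_top k₀ q⟩
  have hiff : ∀ P : PrimeSpectrum L, P.asIdeal ∈ (Module.annihilator L G).minimalPrimes ↔
      (PrimeSpectrum.comap (algebraMap R L) P ∈ Module.support R N ∧
        ∀ s, s ≤ PrimeSpectrum.comap (algebraMap R L) P → s ∈ Module.support R N →
          s = PrimeSpectrum.comap (algebraMap R L) P) := fun P => by
    rw [← mem_support_localized_iff (q := q) g P, Module.mem_support_iff_of_finite]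
    constructor
    · intro h
      refine ⟨h.1.2, fun s hs hsN => ?_⟩
      obtain ⟨Q, rfl⟩ := exists_comap_eq q L (hs.trans (comap_le q L P))
      rw [← mem_support_localized_iff (q := q) g Q, Module.mem_support_iff_of_finite] at hsN
      have hQP := (comap_le_comap_iff q L Q P).1 hs
      exact congrArg _ (PrimeSpectrum.ext (le_antisymm hQP (h.2 ⟨Q.2, hsN⟩ hQP)))
    · rintro ⟨hP, hmax⟩
      refine ⟨⟨P.2, hP⟩, fun J hJ hJP => ?_⟩
      let Q : PrimeSpectrum L := ⟨J, hJ.1⟩
      have h1 := hmax (PrimeSpectrum.comap (algebraMap R L) Q) ((comap_le_comap_iff q L Q P).2 hJP)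
        ((mem_support_localized_iff (q := q) g Q).1 (Module.mem_support_iff_of_finite.2 hJ.2))
      exact (comap_le_comap_iff q L P Q).1 h1.ge
  rw [isEquidimModule_iff]
  constructor
  · rintro h t t' ⟨ht, ht1, ht2⟩ ⟨ht', ht1', ht2'⟩
    obtain ⟨P, rfl⟩ := exists_comap_eq q L ht
    obtain ⟨P', rfl⟩ := exists_comap_eq q L ht'
    refine WithBot.coe_injective (α := ℕ∞) ?_
    rw [← ringKrullDim_quot_add_coheight q L k₀ P, ← ringKrullDim_quot_add_coheight q L k₀ P',
      h P.asIdeal ((hiff P).2 ⟨ht1, ht2⟩) P'.asIdeal ((hiff P').2 ⟨ht1', ht2'⟩)]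
  · intro h p hp p' hp'
    have h1 := ringKrullDim_quot_add_coheight q L k₀ ⟨p, hp.1.1⟩
    have h2 := ringKrullDim_quot_add_coheight q L k₀ ⟨p', hp'.1.1⟩
    rw [h _ _ ⟨comap_le q L ⟨p, hp.1.1⟩, (hiff ⟨p, hp.1.1⟩).1 hp⟩
      ⟨comap_le q L ⟨p', hp'.1.1⟩, (hiff ⟨p', hp'.1.1⟩).1 hp'⟩, ← h2] at h1
    exact (withBot_add_cancel hne.2 h1)
where
  withBot_add_cancel {a b : WithBot ℕ∞} {c : ℕ∞} (hc : c ≠ ⊤) (h : a + (c : WithBot ℕ∞) = b + (c : WithBot ℕ∞)) : a = b := by
    obtain ⟨c, rfl⟩ := ENat.ne_top_iff_exists.1 hc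
    induction a with
    | bot => induction b with
      | bot => rfl
      | coe b => rw [WithBot.bot_add] at h; exact absurd h.symm (by rw [← WithBot.coe_add]; exact WithBot.coe_ne_bot)
    | coe a => induction b with
      | bot => simp at h
      | coe b =>
        rw [← WithBot.coe_add, ← WithBot.coe_add, WithBot.coe_inj] at h
        exact congrArg _ ((ENat.add_left_injective_of_ne_top (ENat.natCast_ne_top c)) h)

end Groth.Agent.H1AssDim
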