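import Groth.Agent.Codepth5.Sk
import Mathlib

/-!
# Associated points in the fibres of a flat module: dimensions, on affine schemes (EGA IV 12.1.1)
-/

universe u

set_option linter.style.haveILetI false
set_option maxHeartbeats 1000000

open IsLocalRing TensorProduct Groth.Agent.RegLoc6 Groth.Agent.Codepth5

namespace Groth.Agent.H1AssDim

open FibDim (fib)

variable (A : Type u) {B : Type u} [CommRing A] [CommRing B] [Algebra A B]
  (M : Type u) [AddCommGroup M] [Module B M]

/-- The height of `t` in its fibre. -/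
noncomputable def ht (t : PrimeSpectrum B) : ℕ∞ :=
  Order.height (⟨t, rfl⟩ : ↥(fib (B := B) (PrimeSpectrum.comap (algebraMap A B) t)))

/-- The coheight of `t` in its fibre. -/
noncomputable def cd (t : PrimeSpectrum B) : ℕ∞ :=
  Order.coheight (⟨t, rfl⟩ : ↥(fib (B := B) (PrimeSpectrum.comap (algebraMap A B) t)))

/-- A property of all generizations of `q` in its fibre. -/
def Gen (Q : PrimeSpectrum B → Prop) (q : PrimeSpectrum B) : Prop :=
  ∀ t, t ≤ q → PrimeSpectrum.comap (algebraMap A B) t = PrimeSpectrum.comap (algebraMap A B) q → Q t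

/-- `t` is associated to the fibre module. -/
def AssOne (t : PrimeSpectrum B) : Prop :=
  (dd (Localization.AtPrime t.asIdeal) (EGA4.FibLocMod A B t.asIdeal M)).2 = 0

/-- `t` is minimal in the support of the fibre module. -/
def MinSupp (t : PrimeSpectrum B) : Prop :=
  t ∈ Module.support B M ∧ Gen A (fun s => s ∈ Module.support B M → s = t) t

variable {A M}

theorem gen_mono {Q Q' : PrimeSpectrum B → Prop} (h : ∀ t, Q t → Q' t) {q : PrimeSpectrum B} (hq : Gen A Q q) :
    Gen A Q' q := fun t ht he => h t (hq t ht he)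

section Surjective

variable {P : Type u} [CommRing P] [Algebra A P] [Algebra P B] [IsScalarTower A P B]

theorem comap_comap (t : PrimeSpectrum B) :
    PrimeSpectrum.comap (algebraMap A P) (PrimeSpectrum.comap (algebraMap P B) t) =
      PrimeSpectrum.comap (algebraMap A B) t := by
  rw [← PrimeSpectrum.comap_comp_apply, ← IsScalarTower.algebraMap_eq]

theorem gen_iff_of_surjective (hf : Function.Surjective (algebraMap P B)) (QP : PrimeSpectrum P → Prop)
    (QB : PrimeSpectrum B → Prop) (hin : ∀ t, QP (PrimeSpectrum.comap (algebraMap P B) t) ↔ QB t)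
    (hout : ∀ t, t ∉ Set.range (PrimeSpectrum.comap (algebraMap P B)) → QP t) (q : PrimeSpectrum B) :
    Gen A QP (PrimeSpectrum.comap (algebraMap P B) q) ↔ Gen A QB q := by
  let ι := PrimeSpectrum.comap (algebraMap P B)
  have hι : Topology.IsClosedEmbedding ι := PrimeSpectrum.isClosedEmbedding_comap_of_surjective _ _ hf
  have hle : ∀ a b, ι a ≤ ι b ↔ a ≤ b := fun a b => by
    rw [PrimeSpectrum.le_iff_specializes, PrimeSpectrum.le_iff_specializes]
    exact hι.isInducing.specializes_iff
  refine ⟨fun h t ht he => (hin t).1 (h _ ((hle _ _).2 ht) ?_), fun h t ht he => ?_⟩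
  · rw [comap_comap, comap_comap, he]
  · by_cases hr : t ∈ Set.range ι
    · obtain ⟨b, rfl⟩ := hr
      rw [comap_comap, comap_comap] at he
      exact (hin b).2 (h b ((hle _ _).1 ht) he)
    · exact hout t hr

theorem cd_of_surjective (hf : Function.Surjective (algebraMap P B)) (t : PrimeSpectrum B) :
    cd A (PrimeSpectrum.comap (algebraMap P B) t) = cd A t :=
  (transfer hf t).symm

variable [Module P M] [IsScalarTower P B M]

theorem assOne_of_surjective (hf : Function.Surjective (algebraMap P B)) (t : PrimeSpectrum B) :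
    AssOne A M (PrimeSpectrum.comap (algebraMap P B) t) ↔ AssOne A M t := by
  rw [AssOne, AssOne, show dd (Localization.AtPrime (PrimeSpectrum.comap (algebraMap P B) t).asIdeal)
      (EGA4.FibLocMod A P (PrimeSpectrum.comap (algebraMap P B) t).asIdeal M) =
    dd (Localization.AtPrime t.asIdeal) (EGA4.FibLocMod A B t.asIdeal M) from dd_surjective hf M t]

theorem mem_support_comap (hf : Function.Surjective (algebraMap P B)) (t : PrimeSpectrum B) :
    PrimeSpectrum.comap (algebraMap P B) t ∈ Module.support P M ↔ t ∈ Module.support B M := by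
  simp only [Module.mem_support_iff']
  refine exists_congr fun m => ⟨fun h r hr => ?_, fun h r hr => ?_⟩
  · obtain ⟨s, rfl⟩ := hf r
    rw [algebraMap_smul]
    exact h s hr
  · rw [← algebraMap_smul B r m]
    exact h _ hr

theorem notMem_support_of_notMem_range (hf : Function.Surjective (algebraMap P B)) (t : PrimeSpectrum P)
    (ht : t ∉ Set.range (PrimeSpectrum.comap (algebraMap P B))) : t ∉ Module.support P M := fun h => ht <| by
  rw [_root_.range_comap_of_surjective _ _ hf]
  intro r hr
  obtain ⟨m, hm⟩ := Module.mem_support_iff'.1 h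
  by_contra hrt
  exact hm r hrt (by rw [← algebraMap_smul B r m, RingHom.mem_ker.1 hr, zero_smul])

theorem minSupp_of_surjective (hf : Function.Surjective (algebraMap P B)) (t : PrimeSpectrum B) :
    MinSupp A M (PrimeSpectrum.comap (algebraMap P B) t) ↔ MinSupp A M t := by
  refine and_congr (mem_support_comap hf t) ?_
  refine gen_iff_of_surjective hf _ _ (fun s => ?_) (fun s hs h => absurd h (notMem_support_of_notMem_range hf s hs)) t
  rw [mem_support_comap hf]
  exact imp_congr_right fun _ =>
    (PrimeSpectrum.isClosedEmbedding_comap_of_surjective _ _ hf).injective.eq_iff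

end Surjective

section Poly

variable {R : Type u} [CommRing R] {N : ℕ}
variable {M : Type u} [AddCommGroup M] [Module (MvPolynomial (Fin N) R) M] [Module.Finite (MvPolynomial (Fin N) R) M]

local notation "P" => MvPolynomial (Fin N) R
local notation "O" q:max => EGA4.FibLocRing R (MvPolynomial (Fin N) R) (PrimeSpectrum.asIdeal q)

/-- The invariants of the fibre module at a point of the support. -/
theorem exists_nat_invariants (q : PrimeSpectrum P) (hq : q ∈ Module.support P M) :
    ∃ d D a : ℕ, a ≤ D ∧ D ≤ d ∧ d ≤ N ∧ ht R q = d ∧ cd R q = ((N - d : ℕ) : ℕ∞) ∧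
      (AssOne R M q ↔ a = 0) ∧ (SkOne R M 1 q.asIdeal ↔ min 1 D ≤ a) ∧ (MinSupp R M q ↔ D = 0) ∧
      (∀ j, PdLE (O q) j ((O q) ⊗[P] M) ↔ d ≤ a + j) ∧
      ∀ e : ℕ, (∀ t : ↥(fib (B := P) (PrimeSpectrum.comap (algebraMap R P) q)),
          t.1 ≤ q → t.1 ∈ Module.support P M → (e : ℕ∞) ≤ Order.height t + (0 : ℕ)) ↔ D + e ≤ d := by
  rcases exists_invariants M q with ⟨hns, -⟩ | ⟨d, D, a, haD, hDd, hdN, hs, hdd, hh, hW, hG⟩
  · exact absurd hq hns
  have hc := height_add_coheight_fib _ (⟨q, rfl⟩ : ↥(fib (B := P) (PrimeSpectrum.comap (algebraMap R P) q)))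
  rw [hh] at hc
  have hcd : cd R q = ((N - d : ℕ) : ℕ∞) := by
    rw [cd]
    generalize Order.coheight (⟨q, rfl⟩ : ↥(fib (B := P) (PrimeSpectrum.comap (algebraMap R P) q))) = c at hc
    induction c using ENat.recTopCoe with
    | top => simp at hc
    | coe c =>
      have hc' : d + c = N := by exact_mod_cast hc
      exact_mod_cast (show c = N - d by omega)
  refine ⟨d, D, a, haD, hDd, hdN, hh, hcd, ?_, ?_, ?_, hW, hG⟩
  · rw [AssOne, hdd]
    exact Nat.cast_eq_zero (R := ℕ∞) (n := a)
  · rw [SkOne, hdd]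
    rcases le_total 1 D with h | h
    · rw [min_eq_left h, min_eq_left (by exact_mod_cast h : ((1 : ℕ) : WithBot ℕ∞) ≤ D)]
      dsimp only
      exact_mod_cast Iff.rfl
    · rw [min_eq_right h, min_eq_right (by exact_mod_cast h : (D : WithBot ℕ∞) ≤ (1 : ℕ))]
      dsimp only
      exact_mod_cast Iff.rfl
  · refine ⟨fun h => ?_, fun h => ⟨hs, fun t ht he htM => ?_⟩⟩
    · have := (hG d).1 fun t ht htM => by
        obtain ⟨t, htp⟩ := t
        obtain rfl : t = q := h.2 t ht htp htM
        rw [Nat.cast_zero, add_zero]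
        exact le_of_eq hh.symm
      omega
    · have h1 := (hG d).2 (by omega) ⟨t, he⟩ ht htM
      rw [Nat.cast_zero, add_zero] at h1
      by_contra hne
      have hlt : (⟨t, he⟩ : ↥(fib (B := P) (PrimeSpectrum.comap (algebraMap R P) q))) < ⟨q, rfl⟩ :=
        lt_of_le_of_ne (show t ≤ q from ht) fun h' => hne (congrArg Subtype.val h')
      have h2 := Order.height_strictMono hlt (lt_of_le_of_lt (Order.height_mono hlt.le) (hh ▸ ENat.natCast_lt_top d))
      rw [hh] at h2
      exact absurd h1 (not_le.2 h2)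

theorem not_assOne_of_notMem (q : PrimeSpectrum P) (hq : q ∉ Module.support P M) : ¬ AssOne R M q := by
  rcases exists_invariants M q with ⟨-, hdd, -⟩ | ⟨d, D, a, -, -, -, hs, -⟩
  · rw [AssOne, hdd]
    exact ENat.top_ne_zero
  · exact absurd hs hq

theorem skOne_one_iff (q : PrimeSpectrum P) : SkOne R M 1 q.asIdeal ↔ (AssOne R M q → MinSupp R M q) := by
  by_cases hq : q ∈ Module.support P M
  · obtain ⟨d, D, a, haD, hDd, hdN, -, -, h1, h2, h3, -⟩ := exists_nat_invariants q hq
    rw [h1, h2, h3]
    omega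
  · refine iff_of_true ?_ fun h => absurd h (not_assOne_of_notMem q hq)
    rcases exists_invariants M q with ⟨-, hdd, -⟩ | ⟨d, D, a, -, -, -, hs, -⟩
    · rw [SkOne, hdd]
      exact le_trans (min_le_right _ _) bot_le
    · exact absurd hs hq

variable [Module R M] [IsScalarTower R (MvPolynomial (Fin N) R) M] [Module.FinitePresentation (MvPolynomial (Fin N) R) M]
  [Module.Flat R M]

theorem isOpen_noEmbGen_poly : IsOpen {q : PrimeSpectrum P | Gen R (fun t => AssOne R M t → MinSupp R M t) q} := by
  convert (isOpen_skGen (R := R) (N := N) M 1) using 1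
  ext q
  exact ⟨fun h t ht => (skOne_one_iff t.1).2 (h t.1 ht t.2), fun h t ht he => (skOne_one_iff t).1 (h ⟨t, he⟩ ht)⟩

/-- The points all of whose associated generizations in the fibre have dimensions in `S` form an open set. -/
theorem isOpen_assGen_poly (S : Set ℕ∞) :
    IsOpen {q : PrimeSpectrum P | Gen R (fun t => AssOne R M t → cd R t ∈ S) q} := by
  let W : ℕ → Set (PrimeSpectrum P) := fun j => {q | PdLE (O q) j ((O q) ⊗[P] M)}
  let C : ℕ → Set (PrimeSpectrum P) := fun e => Module.support P M ∩ ⋂ j ∈ Finset.range e, (W j)ᶜ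
  have hC : ∀ e, IsClosed (C e) := fun e => (Module.isClosed_support (R := P) (M := M)).inter
    (isClosed_biInter fun j _ => (isOpen_pdLE (A := R) (B := P) j M).isClosed_compl)
  choose I hI using fun e => (PrimeSpectrum.isClosed_iff_zeroLocus_ideal (C e)).1 (hC e)
  have hCI : ∀ e, Module.support P (P ⧸ I e) = C e := fun e => by
    rw [Module.support_eq_zeroLocus, Ideal.annihilator_quotient, ← hI e]
  have hmem : ∀ e t, t ∈ C e ↔ t ∈ Module.support P M ∧ ∀ j < e, ¬ PdLE (O t) j ((O t) ⊗[P] M) := fun e t => by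
    simp only [C, W, Set.mem_inter_iff, Set.mem_iInter, Finset.mem_range, Set.mem_compl_iff, Set.mem_ofPred_eq]
  have heq : {q : PrimeSpectrum P | Gen R (fun t => AssOne R M t → cd R t ∈ S) q} =
      ⋂ e ∈ Finset.range (N + 1), {q | ((N - e : ℕ) : ℕ∞) ∈ S ∨
        ∀ t : ↥(fib (B := P) (PrimeSpectrum.comap (algebraMap R P) q)),
          t.1 ≤ q → t.1 ∈ Module.support P (P ⧸ I e) → ((e + 1 : ℕ) : ℕ∞) ≤ Order.height t + (0 : ℕ)} := by
    ext q
    simp only [Set.mem_iInter, Finset.mem_range, Set.mem_ofPred_eq, hCI]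
    constructor
    · intro h e he
      by_contra hc
      push Not at hc
      obtain ⟨hS, ⟨t, htp⟩, htq, htC, hlt⟩ := hc
      obtain ⟨htM, hW⟩ := (hmem e t).1 htC
      obtain ⟨d, D, a, haD, hDd, hdN, hh, hcd, hA, -, -, hWj, -⟩ := exists_nat_invariants t htM
      rw [Nat.cast_zero, add_zero, height_congr_fib htp.symm _ ⟨t, rfl⟩ rfl] at hlt
      rw [show Order.height _ = (d : ℕ∞) from hh] at hlt
      have hde : d ≤ e := Nat.lt_succ_iff.1 (by exact_mod_cast hlt)
      have hae : a + e ≤ d := by
        rcases Nat.eq_zero_or_pos e with h0 | h0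
        · omega
        · have : ¬ d ≤ a + (e - 1) := fun h' => hW (e - 1) (by omega) ((hWj _).2 h')
          omega
      have := h t htq htp (hA.2 (by omega))
      rw [hcd, show d = e by omega] at this
      exact hS this
    · intro h t htq htp hA
      have htM : t ∈ Module.support P M := by
        by_contra hn
        exact not_assOne_of_notMem t hn hA
      obtain ⟨d, D, a, haD, hDd, hdN, hh, hcd, hA', -, -, hWj, -⟩ := exists_nat_invariants t htM
      obtain rfl := hA'.1 hA
      rw [hcd]
      refine (h d (by omega)).resolve_right fun h' => ?_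
      have := h' ⟨t, htp⟩ htq ((hmem d t).2 ⟨htM, fun j hj hp => by have := (hWj j).1 hp; omega⟩)
      rw [Nat.cast_zero, add_zero, height_congr_fib htp.symm _ ⟨t, rfl⟩ rfl,
        show Order.height _ = (d : ℕ∞) from hh] at this
      have : d + 1 ≤ d := by exact_mod_cast this
      omega
  rw [heq]
  refine isOpen_biInter_finset fun e _ => ?_
  by_cases hS : ((N - e : ℕ) : ℕ∞) ∈ S
  · convert isOpen_univ using 1
    exact Set.eq_univ_of_forall fun q => Or.inl hS
  · convert isOpen_codim (P ⧸ I e) (e + 1) 0 using 1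
    · ext q
      exact or_iff_right hS
    all_goals infer_instance

/-- Near a minimal point of the support in the fibre all such points have the same dimension. -/
theorem exists_nhd_minSupp_poly {q : PrimeSpectrum P} (hq : MinSupp R M q) :
    ∃ U : Set (PrimeSpectrum P), IsOpen U ∧ q ∈ U ∧ ∀ t ∈ U, MinSupp R M t → cd R t = cd R q := by
  obtain ⟨d, D, a, haD, hDd, hdN, -, hcd, -, -, hD, hWj, hG⟩ := exists_nat_invariants q hq.1
  have hD0 := hD.1 hq
  refine ⟨_, (isOpen_pdLE (A := R) (B := P) d M).inter (isOpen_codim M d 0),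
    ⟨(hWj d).2 (by omega), (hG d).2 (by omega)⟩, ?_⟩
  rintro t ⟨htW, htG⟩ ht
  obtain ⟨d', D', a', haD', hDd', hdN', -, hcd', -, -, hD', hWj', hG'⟩ := exists_nat_invariants t ht.1
  have h1 := (hWj' d).1 htW
  have h2 := (hG' d).1 htG
  have h3 := hD'.1 ht
  rw [hcd, hcd', show d' = d by omega]

end Poly

section Affine

variable [Algebra.FinitePresentation A B] [Module A M] [IsScalarTower A B M] [Module.FinitePresentation B M]
  [Module.Flat A M]

variable (A M) in
theorem isOpen_assGen (S : Set ℕ∞) : IsOpen {q : PrimeSpectrum B | Gen A (fun t => AssOne A M t → cd A t ∈ S) q} := by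
  obtain ⟨n, iB, iM, h1, h2, h3, hf, hfp⟩ := exists_presentation (A := A) (B := B) M
  convert (isOpen_assGen_poly (M := M) S).preimage (PrimeSpectrum.continuous_comap (algebraMap (MvPolynomial (Fin n) A) B)) using 1
  ext q
  refine (gen_iff_of_surjective hf _ _ (fun t => ?_)
    (fun t ht h => absurd h (not_assOne_of_notMem t (notMem_support_of_notMem_range hf t ht))) q).symm
  rw [assOne_of_surjective hf, cd_of_surjective hf]

variable (A M) in
theorem isOpen_noEmbGen : IsOpen {q : PrimeSpectrum B | Gen A (fun t => AssOne A M t → MinSupp A M t) q} := by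
  obtain ⟨n, iB, iM, h1, h2, h3, hf, hfp⟩ := exists_presentation (A := A) (B := B) M
  convert (isOpen_noEmbGen_poly (M := M)).preimage (PrimeSpectrum.continuous_comap (algebraMap (MvPolynomial (Fin n) A) B)) using 1
  ext q
  refine (gen_iff_of_surjective hf _ _ (fun t => ?_)
    (fun t ht h => absurd h (not_assOne_of_notMem t (notMem_support_of_notMem_range hf t ht))) q).symm
  rw [assOne_of_surjective hf, minSupp_of_surjective hf]

theorem exists_nhd_minSupp {q : PrimeSpectrum B} (hq : MinSupp A M q) :
    ∃ U : Set (PrimeSpectrum B), IsOpen U ∧ q ∈ U ∧ ∀ t ∈ U, MinSupp A M t → cd A t = cd A q := by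
  obtain ⟨n, iB, iM, h1, h2, h3, hf, hfp⟩ := exists_presentation (A := A) (B := B) M
  obtain ⟨U, hU, hqU, h⟩ := exists_nhd_minSupp_poly ((minSupp_of_surjective hf q).2 hq)
  refine ⟨_, hU.preimage (PrimeSpectrum.continuous_comap _), hqU, fun t ht htm => ?_⟩
  have := h _ ht ((minSupp_of_surjective hf t).2 htm)
  rwa [cd_of_surjective hf, cd_of_surjective hf] at this

end Affine

end Groth.Agent.H1AssDim
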