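import Groth.Agent.H1AssDim.Poly
import Groth.Agent.Codepth5.Open
import Groth.Agent.Codepth5.CM
import Groth.Agent.AssLib.Basic
import Groth.Agent.FibDim.Basic
import Groth.Agent.S5752
import Mathlib

/-!
# Associated points in the fibres of a flat module: dimensions, on schemes (EGA IV 12.1.1)
-/

universe u

set_option backward.isDefEq.respectTransparency false
set_option backward.isDefEq.respectTransparency.types false
set_option linter.style.haveILetI false
set_option maxHeartbeats 1000000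

open AlgebraicGeometry CategoryTheory IsLocalRing
open Groth.Agent.Codepth5

namespace Groth.Agent.H1AssDim

open FibDim (fib)

variable {X Y : Scheme.{u}} (f : X ⟶ Y) (F : X.Modules)

/-- A property of all generizations of `x` in its fibre. -/
def XGen (Q : X → Prop) (x : X) : Prop := ∀ t, t ⤳ x → f t = f x → Q t

/-- `x` is associated to the restriction of `F` to its fibre. -/
def XAss (x : X) : Prop :=
  (dd (X.presheaf.stalk x) (F.presheaf.stalk x ⧸ (fibIdeal f x • ⊤ : Submodule (X.presheaf.stalk x) (F.presheaf.stalk x)))).2 = 0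

/-- `x` is minimal in the support of `F` within its fibre. -/
def XMin (x : X) : Prop :=
  x ∈ CohB1.support F ∧ XGen f (fun t => t ∈ CohB1.support F → t = x) x

theorem fibIdeal_le (x : X) : fibIdeal f x ≤ maximalIdeal (X.presheaf.stalk x) :=
  Ideal.map_le_iff_le_comap.2 fun _ ha => map_nonunit (f.stalkMap x).hom _ ha

theorem finite_stalk (hF : CohB1.IsFP F) (x : X) : Module.Finite (X.presheaf.stalk x) (F.presheaf.stalk x) :=
  QCoh.finite_stalk_of_isFT (QCoh.isQCoh_of_isFP hF) (QCoh.isFT_of_isFP hF) _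

theorem nontrivial_fibre_stalk_iff (hF : CohB1.IsFP F) (s : Y) (w : ↥(f.fiber s)) :
    Nontrivial (((Scheme.Modules.pullback (f.fiberι s)).obj F).presheaf.stalk w) ↔
      f.fiberι s w ∈ CohB1.support F := by
  haveI := finite_stalk F hF (f.fiberι s w)
  have h := congrArg Prod.fst (fibre_dd_eq f F _ s w rfl)
  simp only [dd] at h
  refine not_subsingleton_iff_nontrivial.symm.trans (not_congr ?_)
  rw [← Module.supportDim_eq_bot_iff_subsingleton ((f.fiber s).presheaf.stalk w), h,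
    Module.supportDim_eq_bot_iff_subsingleton, Submodule.Quotient.subsingleton_iff]
  refine ⟨fun hs => ?_, fun hs => haveI := hs; Subsingleton.elim _ _⟩
  have hbot : (⊤ : Submodule (X.presheaf.stalk (f.fiberι s w)) (F.presheaf.stalk (f.fiberι s w))) = ⊥ :=
    Submodule.eq_bot_of_le_smul_of_le_jacobson_bot (fibIdeal f (f.fiberι s w)) _ Module.Finite.fg_top hs.ge
      ((fibIdeal_le f _).trans (IsLocalRing.jacobson_eq_maximalIdeal ⊥ bot_ne_top).ge)
  exact subsingleton_of_forall_eq 0 fun m => (Submodule.mem_bot _).1 (hbot ▸ Submodule.mem_top : m ∈ (⊥ : Submodule _ _))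

theorem mem_ass_iff [LocallyOfFiniteType f] (hF : CohB1.IsFP F) (s : Y) (w : ↥(f.fiber s)) :
    w ∈ AssSch.Ass ((Scheme.Modules.pullback (f.fiberι s)).obj F) ↔ XAss f F (f.fiberι s w) := by
  haveI : IsLocallyNoetherian (f.fiber s) := LocallyOfFiniteType.isLocallyNoetherian (f.fiberToSpecResidueField s)
  haveI := finite_fibre_stalk f F hF s w
  rw [AssLib.mem_ass_def, ← S5752.result, XAss, ← fibre_dd_eq f F _ s w rfl]
  rfl

theorem dim_closure_fibre [LocallyOfFiniteType f] (s : Y) (w : ↥(f.fiber s)) :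
    topologicalKrullDim ↥(closure ({w} : Set ↥(f.fiber s))) = ((FibDim.rd f (f.fiberι s w) : ℕ∞) : WithBot ℕ∞) := by
  rw [VarDim.topologicalKrullDim_closure_singleton (k := Y.residueField s) (f.fiberToSpecResidueField s) w,
    FibDim.deg_fiber]

/-- Generizations in the fibre, on a chart. -/
theorem xgen_chart_iff {U : X.Opens} (hU : IsAffineOpen U) {V : Y.Opens} (hV : IsAffineOpen V) (hle : U ≤ f ⁻¹ᵁ V)
    (Q : X → Prop) (Q' : PrimeSpectrum Γ(X, U) → Prop) (hQ : ∀ z (hz : z ∈ U), Q z ↔ Q' (hU.primeIdealOf ⟨z, hz⟩))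
    {x : X} (hx : x ∈ U) :
    letI := (f.appLE V U hle).hom.toAlgebra
    XGen f Q x ↔ Gen Γ(Y, V) Q' (hU.primeIdealOf ⟨x, hx⟩) := by
  letI := (f.appLE V U hle).hom.toAlgebra
  have hcomm : ∀ z (hz : z ∈ U), f z =
      hV.fromSpec (PrimeSpectrum.comap (algebraMap Γ(Y, V) Γ(X, U)) (hU.primeIdealOf ⟨z, hz⟩)) := fun z hz => by
    rw [RingHom.algebraMap_toAlgebra, ← FibDim.fromSpec_comm f hV hU hle, hU.fromSpec_primeIdealOf ⟨z, hz⟩]
  constructor
  · intro h t ht he
    have hz : hU.fromSpec t ∈ U := (Set.ext_iff.1 hU.range_fromSpec _).1 (Set.mem_range_self t)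
    have he' : hU.primeIdealOf ⟨hU.fromSpec t, hz⟩ = t :=
      hU.fromSpec.isOpenEmbedding.injective (hU.fromSpec_primeIdealOf ⟨_, hz⟩)
    rw [← he']
    refine (hQ _ hz).1 (h _ ((AssLib.primeIdealOf_le_iff hU hx hz).1 (he'.symm ▸ ht)) ?_)
    rw [hcomm _ hz, hcomm _ hx, he', he]
  · intro h t ht he
    have hz : t ∈ U := ht.mem_open U.2 hx
    refine (hQ t hz).2 (h _ ((AssLib.primeIdealOf_le_iff hU hx hz).2 ht) (hV.fromSpec.isOpenEmbedding.injective ?_))
    rw [← hcomm _ hz, ← hcomm _ hx, he]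

theorem xass_chart_iff (hF : CohB1.IsFP F) {U : X.Opens} (hU : IsAffineOpen U) {V : Y.Opens} (hV : IsAffineOpen V)
    (hle : U ≤ f ⁻¹ᵁ V) (z : X) (hz : z ∈ U) :
    letI := (f.appLE V U hle).hom.toAlgebra
    XAss f F z ↔ AssOne Γ(Y, V) Γ(F, U) (hU.primeIdealOf ⟨z, hz⟩) := by
  letI := QCoh.stalkModule F hz
  haveI := QCoh.isLocalizedModule_germLin (QCoh.isQCoh_of_isFP hF) hU hz
  rw [XAss, dd_chart_eq f hU hV hle hz (fun _ _ => rfl) (QCoh.germLin F hz)]
  rfl

theorem xmin_chart_iff (hF : CohB1.IsFP F) {U : X.Opens} (hU : IsAffineOpen U) {V : Y.Opens} (hV : IsAffineOpen V)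
    (hle : U ≤ f ⁻¹ᵁ V) (z : X) (hz : z ∈ U) :
    letI := (f.appLE V U hle).hom.toAlgebra
    XMin f F z ↔ MinSupp Γ(Y, V) Γ(F, U) (hU.primeIdealOf ⟨z, hz⟩) := by
  refine and_congr (QCoh.mem_moduleSupport_iff (QCoh.isQCoh_of_isFP hF) hU hz).symm ?_
  refine xgen_chart_iff f hU hV hle _ _ (fun t ht => ?_) hz
  rw [QCoh.mem_moduleSupport_iff (QCoh.isQCoh_of_isFP hF) hU ht]
  exact imp_congr_right fun _ => ⟨fun h => by subst h; rfl,
    fun h => AssLib.eq_of_primeIdealOf_eq hU hz ht (congrArg PrimeSpectrum.asIdeal h)⟩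

theorem cd_chart [LocallyOfFinitePresentation f] {U : X.Opens} (hU : IsAffineOpen U) {V : Y.Opens} (hV : IsAffineOpen V)
    (hle : U ≤ f ⁻¹ᵁ V) (z : X) (hz : z ∈ U) :
    letI := (f.appLE V U hle).hom.toAlgebra
    cd Γ(Y, V) (hU.primeIdealOf ⟨z, hz⟩) = (FibDim.rd f z : ℕ∞) := by
  have h := coheight_eq_rd f hU hV hle (hU.primeIdealOf ⟨z, hz⟩)
  rw [hU.fromSpec_primeIdealOf ⟨z, hz⟩] at h
  exact h

/-- An affine chart with the properties needed. -/
theorem exists_chart [LocallyOfFinitePresentation f] (x : X) :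
    ∃ (U : X.Opens) (_ : IsAffineOpen U) (V : Y.Opens) (_ : IsAffineOpen V), U ≤ f ⁻¹ᵁ V ∧ x ∈ U := by
  obtain ⟨V, hV, hxV, -⟩ := exists_isAffineOpen_mem_and_subset (U := (⊤ : Y.Opens)) (x := f x) trivial
  obtain ⟨U, hU, hxU, hUV⟩ := exists_isAffineOpen_mem_and_subset (U := f ⁻¹ᵁ V) (x := x) hxV
  exact ⟨U, hU, V, hV, hUV, hxU⟩

/-- A property of points read off on charts is open. -/
theorem isOpen_of_charts [LocallyOfFinitePresentation f] (hF : CohB1.IsFP F) (hflat : FlatMod.IsFlatOver f F)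
    (Q : X → Prop)
    (Q' : ∀ (A B : Type u) [CommRing A] [CommRing B] [Algebra A B] (M : Type u) [AddCommGroup M] [Module B M],
      PrimeSpectrum B → Prop)
    (hopen : ∀ (A B : Type u) [CommRing A] [CommRing B] [Algebra A B] [Algebra.FinitePresentation A B]
      (M : Type u) [AddCommGroup M] [Module B M] [Module A M] [IsScalarTower A B M] [Module.FinitePresentation B M]
      [Module.Flat A M], IsOpen {q | Q' A B M q})
    (hchart : ∀ (U : X.Opens) (hU : IsAffineOpen U) (V : Y.Opens) (_ : IsAffineOpen V) (hle : U ≤ f ⁻¹ᵁ V)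
      (z : X) (hz : z ∈ U), letI := (f.appLE V U hle).hom.toAlgebra
      Q z ↔ Q' Γ(Y, V) Γ(X, U) Γ(F, U) (hU.primeIdealOf ⟨z, hz⟩)) :
    IsOpen {x : X | Q x} := by
  rw [isOpen_iff_forall_mem_open]
  intro x hx
  obtain ⟨U, hU, V, hV, hUV, hxU⟩ := exists_chart f x
  letI : Algebra Γ(Y, V) Γ(X, U) := (f.appLE V U hUV).hom.toAlgebra
  haveI : Algebra.FinitePresentation Γ(Y, V) Γ(X, U) := f.finitePresentation_appLE hV hU hUV
  letI : Module Γ(Y, V) Γ(F, U) := Module.compHom _ (f.appLE V U hUV).hom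
  haveI : IsScalarTower Γ(Y, V) Γ(X, U) Γ(F, U) := IsScalarTower.of_algebraMap_smul fun _ _ => rfl
  haveI := QCoh.finitePresentation_of_isFP hF hU
  haveI : Module.Flat Γ(Y, V) Γ(F, U) :=
    (QCoh.flat_appLE_iff f (QCoh.isQCoh_of_isFP hF) hU hV hUV).2 fun z _ => hflat z
  refine ⟨hU.fromSpec '' {q | Q' Γ(Y, V) Γ(X, U) Γ(F, U) q}, ?_,
    hU.fromSpec.isOpenEmbedding.isOpenMap _ (hopen Γ(Y, V) Γ(X, U) Γ(F, U)), ?_⟩
  · rintro _ ⟨q, hq, rfl⟩
    have hz : hU.fromSpec q ∈ U := (Set.ext_iff.1 hU.range_fromSpec _).1 (Set.mem_range_self q)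
    refine (hchart U hU V hV hUV _ hz).2 ?_
    have he : hU.primeIdealOf ⟨hU.fromSpec q, hz⟩ = q :=
      hU.fromSpec.isOpenEmbedding.injective (hU.fromSpec_primeIdealOf ⟨_, hz⟩)
    exact he.symm ▸ hq
  · exact ⟨hU.primeIdealOf ⟨x, hxU⟩, (hchart U hU V hV hUV x hxU).1 hx, hU.fromSpec_primeIdealOf ⟨x, hxU⟩⟩

theorem isOpen_xassGen [LocallyOfFinitePresentation f] (hF : CohB1.IsFP F) (hflat : FlatMod.IsFlatOver f F)
    (S : Set ℕ∞) : IsOpen {x : X | XGen f (fun t => XAss f F t → (FibDim.rd f t : ℕ∞) ∈ S) x} :=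
  isOpen_of_charts f F hF hflat _ (fun A B _ _ _ M _ _ => Gen A (fun t => AssOne A M t → cd A t ∈ S))
    (fun A B _ _ _ _ M _ _ _ _ _ _ => isOpen_assGen A M S)
    fun U hU V hV hle x hx => xgen_chart_iff f hU hV hle _ _ (fun z hz => by
      rw [xass_chart_iff f F hF hU hV hle z hz, cd_chart f hU hV hle z hz]) hx

theorem isOpen_xnoEmb [LocallyOfFinitePresentation f] (hF : CohB1.IsFP F) (hflat : FlatMod.IsFlatOver f F) :
    IsOpen {x : X | XGen f (fun t => XAss f F t → XMin f F t) x} :=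
  isOpen_of_charts f F hF hflat _ (fun A B _ _ _ M _ _ => Gen A (fun t => AssOne A M t → MinSupp A M t))
    (fun A B _ _ _ _ M _ _ _ _ _ _ => isOpen_noEmbGen A M)
    fun U hU V hV hle x hx => xgen_chart_iff f hU hV hle _ _ (fun z hz => by
      rw [xass_chart_iff f F hF hU hV hle z hz, xmin_chart_iff f F hF hU hV hle z hz]) hx

/-- Near a minimal point of the support in the fibre all such points have the same dimension. -/
theorem exists_nhd_xmin [LocallyOfFinitePresentation f] (hF : CohB1.IsFP F) (hflat : FlatMod.IsFlatOver f F)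
    {x : X} (hx : XMin f F x) :
    ∃ O : Set X, IsOpen O ∧ x ∈ O ∧ ∀ t ∈ O, XMin f F t → FibDim.rd f t = FibDim.rd f x := by
  obtain ⟨U, hU, V, hV, hUV, hxU⟩ := exists_chart f x
  letI : Algebra Γ(Y, V) Γ(X, U) := (f.appLE V U hUV).hom.toAlgebra
  haveI : Algebra.FinitePresentation Γ(Y, V) Γ(X, U) := f.finitePresentation_appLE hV hU hUV
  letI : Module Γ(Y, V) Γ(F, U) := Module.compHom _ (f.appLE V U hUV).hom
  haveI : IsScalarTower Γ(Y, V) Γ(X, U) Γ(F, U) := IsScalarTower.of_algebraMap_smul fun _ _ => rfl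
  haveI := QCoh.finitePresentation_of_isFP hF hU
  haveI : Module.Flat Γ(Y, V) Γ(F, U) :=
    (QCoh.flat_appLE_iff f (QCoh.isQCoh_of_isFP hF) hU hV hUV).2 fun z _ => hflat z
  obtain ⟨O, hO, hqO, h⟩ := exists_nhd_minSupp ((xmin_chart_iff f F hF hU hV hUV x hxU).1 hx)
  refine ⟨hU.fromSpec '' O, hU.fromSpec.isOpenEmbedding.isOpenMap _ hO,
    ⟨_, hqO, hU.fromSpec_primeIdealOf ⟨x, hxU⟩⟩, ?_⟩
  rintro _ ⟨q, hq, rfl⟩ hmin
  have hz : hU.fromSpec q ∈ U := (Set.ext_iff.1 hU.range_fromSpec _).1 (Set.mem_range_self q)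
  have he : hU.primeIdealOf ⟨hU.fromSpec q, hz⟩ = q :=
    hU.fromSpec.isOpenEmbedding.injective (hU.fromSpec_primeIdealOf ⟨_, hz⟩)
  have h1 := h _ (he.symm ▸ hq) ((xmin_chart_iff f F hF hU hV hUV _ hz).1 hmin)
  rw [cd_chart f hU hV hUV _ hz, cd_chart f hU hV hUV x hxU] at h1
  exact_mod_cast h1

end Groth.Agent.H1AssDim
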